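import Cfsg.Agent.Lib.ClassSquare.LargeRee.Moves
import Cfsg.Agent.Lib.ClassSquare.Criterion
import Cfsg.Agent.Lib.TwistAut.F4Roots

/-!
Gauss decompositions with prescribed torus part in `²F₄(q)`, and the square of the class of a
regular torus element.
-/

set_option autoImplicit false
set_option maxRecDepth 100000
set_option linter.unusedSectionVars false

namespace CfsgLib.ClassSquare.LargeRee

open Cfsg.Lie Matrix CfsgLib.Chev CfsgLib.Chev.F4Root
open CfsgLib.Chev.Cert (torusHom extC mem_cellList Maps_mul)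

section Aux

variable {K : Type*} [Field K] [Fintype K] [CharP K 2] {e : ℕ}

theorem chi_zero (a b : Kˣ) : F4Root.chi e 0 a b = a ^ 2 * b⁻¹ := by
  simp [F4Root.chi, eA, eB, cR, carR, zpow_ofNat]

theorem chi_one (a b : Kˣ) : F4Root.chi e 1 a b = a⁻¹ * b ^ (2 - 2 * (e : ℤ)) := by
  simp [F4Root.chi, eA, eB, cR, carR]
  congr 1
  ring

theorem chi_mul (k : ℕ) (a b a' b' : Kˣ) : F4Root.chi e k (a * a') (b * b') = F4Root.chi e k a b * F4Root.chi e k a' b' := by
  simp only [F4Root.chi, _root_.mul_zpow]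
  exact mul_mul_mul_comm _ _ _ _

theorem chi_pair_eq_one (hK : Fintype.card K = 2 * e ^ 2) {a b : Kˣ} (h0 : F4Root.chi e 0 a b = 1)
    (h1 : F4Root.chi e 1 a b = 1) : a = 1 ∧ b = 1 := by
  refine CfsgLib.TwistAut.F4.char_ext hK (u' := 1) (v' := 1) ?_ ?_
  · rw [chi_zero] at h0
    simp only [CfsgLib.TwistAut.F4.chA, one_pow, inv_one, mul_one]
    exact h0
  · rw [chi_one, _root_.zpow_sub, show (2 * (e : ℤ)) = ((2 * e : ℕ) : ℤ) by push_cast; ring,
      zpow_ofNat, _root_.zpow_natCast] at h1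
    simp only [CfsgLib.TwistAut.F4.chB, one_pow, mul_one, inv_one]
    rw [← h1, _root_.mul_inv_rev]
    simp only [mul_comm, mul_left_comm, mul_assoc]

end Aux

variable {K : Type*} [Field K] [Fintype K] [CharP K 2] {e : ℕ}
variable (f : K →+* K) (hf : ∀ t, f t = t ^ e) (hK : Fintype.card K = 2 * e ^ 2)
include hf hK

theorem tel_mul (a b a' b' : Kˣ) :
    tel f hf hK (a * a') (b * b') = tel f hf hK a b * tel f hf hK a' b' := by
  refine Subtype.ext ?_
  show torusHom (D := chevF4) (T := tabF4) (par e (a * a') (b * b')) =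
    torusHom (D := chevF4) (T := tabF4) (par e a b) * torusHom (D := chevF4) (T := tabF4) (par e a' b')
  rw [← map_mul]
  congr 1
  funext i
  obtain ⟨i, hi⟩ := i
  have hi' : i < 4 := hi
  interval_cases i <;> simp [par, mul_pow]

theorem tel_one : tel f hf hK (1 : Kˣ) 1 = 1 := by
  have h := tel_mul f hf hK 1 1 1 1
  rwa [mul_one, left_eq_mul] at h

theorem tel_comm : ∀ s ∈ (endoF4 f).diaG, ∀ t ∈ (endoF4 f).diaG, Commute s t :=
  fun _ hs _ ht => (endoF4 f).torG_comm hs ht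

theorem not_commute_elA {a b : Kˣ} (h : F4Root.chi e 0 a b ≠ 1) :
    ¬ Commute (elA f hf hK 1) (tel f hf hK a b) := by
  intro hc
  have hr : (Endo.orbL dataTwF4.L 0).root = 24 := rfl
  have h24 := charOf_par (e := e) a b (k := 0) (by decide)
  rw [hr] at h24
  have e1 : tel f hf hK a b * elA f hf hK 1 * (tel f hf hK a b)⁻¹ = elA f hf hK 1 := by
    rw [← hc.eq, mul_inv_cancel_right]
  have e2 := congrArg (fun g : ↥(endoF4 f).fix => ((g : GL chevF4.Idx K) :
    Matrix chevF4.Idx chevF4.Idx K).submatrix iotaA iotaA) e1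
  simp only [Subgroup.coe_mul, Subgroup.coe_inv] at e2
  rw [show (tel f hf hK a b : GL chevF4.Idx K) = torusHom (D := chevF4) (T := tabF4) (par e a b) from rfl,
    show (elA f hf hK 1 : GL chevF4.Idx K) = X chevF4 33 ((1 : K) ^ e) * X chevF4 24 1 from rfl,
    ← conj_mul, GTorus.torusHom_conj_X certF4 _ (by decide +kernel),
    GTorus.torusHom_conj_X certF4 _ (by decide +kernel), sub_pairA, sub_pairA, h24] at e2
  have := congrFun (congrFun e2 1) 0
  simp at this
  exact h this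

theorem not_commute_elB {a b : Kˣ} (h : F4Root.chi e 1 a b ≠ 1) :
    ¬ Commute (elB f hf hK 1 0) (tel f hf hK a b) := by
  intro hc
  have he := pos_e f hf hK
  have hr : (Endo.orbL dataTwF4.L 1).root = 25 := rfl
  have h25 := charOf_par (e := e) a b (k := 1) (by decide)
  rw [hr] at h25
  set c27 := charOf tabF4 (extC tabF4 (par e a b)) 27
  set c28 := charOf tabF4 (extC tabF4 (par e a b)) 28
  set c25 := charOf tabF4 (extC tabF4 (par e a b)) 25
  have e1 : tel f hf hK a b * elB f hf hK 1 0 * (tel f hf hK a b)⁻¹ = elB f hf hK 1 0 := by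
    rw [← hc.eq, mul_inv_cancel_right]
  have e2 := congrArg (fun g : ↥(endoF4 f).fix => ((g : GL chevF4.Idx K) :
    Matrix chevF4.Idx chevF4.Idx K).submatrix iotaB iotaB) e1
  simp only [Subgroup.coe_mul, Subgroup.coe_inv] at e2
  rw [show (tel f hf hK a b : GL chevF4.Idx K) = torusHom (D := chevF4) (T := tabF4) (par e a b) from rfl,
    show (elB f hf hK 1 0 : GL chevF4.Idx K) = X chevF4 27 ((1 : K) ^ e) * X chevF4 25 1 *
      X chevF4 28 ((1 : K) ^ (e + 1) + 0) * X chevF4 30 ((0 : K) ^ (2 * e)) from rfl,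
    ← conj_mul, ← conj_mul, ← conj_mul, GTorus.torusHom_conj_X certF4 _ (by decide +kernel),
    GTorus.torusHom_conj_X certF4 _ (by decide +kernel), GTorus.torusHom_conj_X certF4 _ (by decide +kernel),
    GTorus.torusHom_conj_X certF4 _ (by decide +kernel),
    show c28 * ((1 : K) ^ (e + 1) + 0) = c27 * (1 : K) ^ e * (c25 * 1) + (c28 - c27 * c25) by
      simp only [one_pow]; ring,
    show (1 : K) ^ (e + 1) + 0 = (1 : K) ^ e * 1 + 0 by simp, sub_wordB, sub_wordB] at e2
  have := congrFun (congrFun e2 2) 1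
  simp [matB] at this
  exact h (Units.ext (h25.symm.trans this))

/-- Conjugate into the part of the big cell with torus element `(a, b)`. -/
def InT (g : ↥(endoF4 f).fix) (a b : Kˣ) : Prop := InCell (endoF4 f) g (tel f hf hK a b)

theorem moveA {g y a u x b : ↥(endoF4 f).fix} {s t : Kˣ} (ha : a ∈ radN (endoF4 f) clA)
    (hu : u ∈ (endoF4 f).clsY clA) (hx : x ∈ (endoF4 f).clsX clA) (hb : b ∈ radP (endoF4 f) clA)
    (hrep : y * g * y⁻¹ = a * u * tel f hf hK s t * (x * b))
    (hmov : u ≠ 1 ∨ x ≠ 1 ∨ F4Root.chi e 0 s t ≠ 1) (s' : Kˣ) : InT f hf hK g s' t := by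
  have h := move (P := splitHyp f hf hK) (hc := clA_mem) (opp f hf hK) (coverA f hf hK)
    (by rintro _ ⟨a', rfl⟩; exact tel_mem f hf hK a' 1)
    (by rintro _ ⟨a', rfl⟩; exact (opp f hf hK).inverts (tel_mem f hf hK a' 1))
    (tel_comm f hf hK) (tel_mem f hf hK s t) ha hu hx hb hrep
    (hmov.imp id (Or.imp id fun h => ⟨_, elA_mem f hf hK 1, not_commute_elA f hf hK h⟩))
    (τ := tel f hf hK (s' * s⁻¹) 1) ⟨_, rfl⟩
  rwa [← tel_mul, inv_mul_cancel_right, one_mul] at h

theorem moveB (m : ℕ) (hem : e = 2 ^ m) {g y a u x b : ↥(endoF4 f).fix} {s t : Kˣ}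
    (ha : a ∈ radN (endoF4 f) clB) (hu : u ∈ (endoF4 f).clsY clB) (hx : x ∈ (endoF4 f).clsX clB)
    (hb : b ∈ radP (endoF4 f) clB) (hrep : y * g * y⁻¹ = a * u * tel f hf hK s t * (x * b))
    (hmov : u ≠ 1 ∨ x ≠ 1 ∨ F4Root.chi e 1 s t ≠ 1) (t' : Kˣ) : InT f hf hK g s t' := by
  have h := move (P := splitHyp f hf hK) (hc := clB_mem) (opp f hf hK) (coverB f hf hK m hem)
    (by rintro _ ⟨a', rfl⟩; exact tel_mem f hf hK 1 a')
    (by rintro _ ⟨a', rfl⟩; exact (opp f hf hK).inverts (tel_mem f hf hK 1 a'))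
    (tel_comm f hf hK) (tel_mem f hf hK s t) ha hu hx hb hrep
    (hmov.imp id (Or.imp id fun h => ⟨_, elB_mem f hf hK 1 0, not_commute_elB f hf hK h⟩))
    (τ := tel f hf hK 1 (t' * t⁻¹)) ⟨_, rfl⟩
  rwa [← tel_mul, inv_mul_cancel_right, one_mul] at h

theorem split_rep {c : Cls} (hc : c ∈ dataTwF4.CL) {a b : ↥(endoF4 f).fix}
    (ha : a ∈ negG (endoF4 f)) (hb : b ∈ (endoF4 f).posG) :
    ∃ a' ∈ radN (endoF4 f) c, ∃ u ∈ (endoF4 f).clsY c, ∃ x ∈ (endoF4 f).clsX c,
      ∃ b' ∈ radP (endoF4 f) c, a = a' * u ∧ b = x * b' := by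
  obtain ⟨a', ha', u, hu, rfl⟩ := split_neg (P := splitHyp f hf hK) hc (opp f hf hK) ha
  obtain ⟨b', hb', x, hx, e'⟩ := (endoF4 f).split_class (dataOK_F4 f).cls hc (inv_mem hb)
  exact ⟨a', ha', u, hu, x⁻¹, inv_mem hx, b'⁻¹, inv_mem (Subgroup.mem_subgroupOf.2 hb'), rfl,
    by rw [← _root_.mul_inv_rev, ← e', inv_inv]⟩

theorem moveA_good {g : ↥(endoF4 f).fix} {s t : Kˣ} (hg : InT f hf hK g s t)
    (h : F4Root.chi e 0 s t ≠ 1) (s' : Kˣ) : InT f hf hK g s' t := by
  obtain ⟨y, a, ha, b, hb, hrep⟩ := hg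
  obtain ⟨a', ha', u, hu, x, hx, b', hb', rfl, rfl⟩ := split_rep f hf hK clA_mem ha hb
  exact moveA f hf hK ha' hu hx hb' hrep (Or.inr (Or.inr h)) s'

theorem moveB_good (m : ℕ) (hem : e = 2 ^ m) {g : ↥(endoF4 f).fix} {s t : Kˣ}
    (hg : InT f hf hK g s t) (h : F4Root.chi e 1 s t ≠ 1) (t' : Kˣ) : InT f hf hK g s t' := by
  obtain ⟨y, a, ha, b, hb, hrep⟩ := hg
  obtain ⟨a', ha', u, hu, x, hx, b', hb', rfl, rfl⟩ := split_rep f hf hK clB_mem ha hb
  exact moveB f hf hK m hem ha' hu hx hb' hrep (Or.inr (Or.inr h)) t'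

/-- Products of the two representatives. -/
noncomputable def repWord : List ℕ → ↥(endoF4 f).fix
  | [] => 1
  | j :: M => (if j = 0 then repA f hf hK else repB f hf hK) * repWord M

theorem repWord_maps : ∀ M : List ℕ, (∀ j ∈ M, j < 2) → repWord f hf hK M ∈ (endoF4 f).monG ∧
    ∀ r < tabF4.n, Maps chevF4 (repWord f hf hK M : GL chevF4.Idx K) r
      (rword tabF4 (clsWord dataTwF4.CL M) r)
  | [], _ => ⟨one_mem _, fun _ hr => certF4.Maps_diagonal (one_mem _) hr⟩
  | j :: M, hM => by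
    obtain ⟨h1, h2⟩ := repWord_maps M fun i hi => hM i (List.mem_cons_of_mem _ hi)
    have hw := (endoF4 f).wordOK_clsWord (dataOK_F4 f).cls (M := M) fun i hi =>
      hM i (List.mem_cons_of_mem _ hi)
    have hj : j < 2 := hM j List.mem_cons_self
    have hrep : (if j = 0 then repA f hf hK else repB f hf hK) ∈ (endoF4 f).monG ∧
        ∀ r < tabF4.n, Maps chevF4 ((if j = 0 then repA f hf hK else repB f hf hK :
          ↥(endoF4 f).fix) : GL chevF4.Idx K) r (rword tabF4 (dataTwF4.CL.getD j ⟨[], []⟩).word r) := by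
      interval_cases j
      · exact repA_isRep f hf hK
      · exact repB_isRep f hf hK
    refine ⟨mul_mem hrep.1 h1, fun r hr => ?_⟩
    rw [show clsWord dataTwF4.CL (j :: M) = (dataTwF4.CL.getD j ⟨[], []⟩).word ++
      clsWord dataTwF4.CL M from rfl, rword_append]
    simp only [repWord, Subgroup.coe_mul]
    exact Maps_mul (h2 r hr) (hrep.2 _ (certF4.rword_lt hw hr))

/-- A non-trivial element is movable at some class. -/
theorem exists_move (m : ℕ) (hem : e = 2 ^ m) {g : ↥(endoF4 f).fix} (hne : g ≠ 1) :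
    (∃ t, ∀ s, InT f hf hK g s t) ∨ ∃ s, ∀ t, InT f hf hK g s t := by
  have P := splitHyp f hf hK
  by_contra hno
  push Not at hno
  obtain ⟨hnoA, hnoB⟩ := hno
  have key : ∀ {y a b : ↥(endoF4 f).fix} {s t : Kˣ}, a ∈ negG (endoF4 f) → b ∈ (endoF4 f).posG →
      y * g * y⁻¹ = a * tel f hf hK s t * b →
      (F4Root.chi e 0 s t = 1 ∧ a ∈ radN (endoF4 f) clA ∧ b ∈ radP (endoF4 f) clA) ∧
      (F4Root.chi e 1 s t = 1 ∧ a ∈ radN (endoF4 f) clB ∧ b ∈ radP (endoF4 f) clB) := by
    intro y a b s t ha hb hrep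
    constructor
    · obtain ⟨a', ha', u, hu, x, hx, b', hb', rfl, rfl⟩ := split_rep f hf hK clA_mem ha hb
      have hn : ¬ (u ≠ 1 ∨ x ≠ 1 ∨ F4Root.chi e 0 s t ≠ 1) := fun h => by
        obtain ⟨s', hs'⟩ := hnoA t
        exact hs' (moveA f hf hK ha' hu hx hb' hrep h s')
      push Not at hn
      obtain ⟨rfl, rfl, h3⟩ := hn
      rw [mul_one, one_mul]; exact ⟨h3, ha', hb'⟩
    · obtain ⟨a', ha', u, hu, x, hx, b', hb', rfl, rfl⟩ := split_rep f hf hK clB_mem ha hb
      have hn : ¬ (u ≠ 1 ∨ x ≠ 1 ∨ F4Root.chi e 1 s t ≠ 1) := fun h => by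
        obtain ⟨t', ht'⟩ := hnoB s
        exact ht' (moveB f hf hK m hem ha' hu hx hb' hrep h t')
      push Not at hn
      obtain ⟨rfl, rfl, h3⟩ := hn
      rw [mul_one, one_mul]; exact ⟨h3, ha', hb'⟩
  obtain ⟨τ, hτ, y, a, ha, b, hb, hrep⟩ :=
    exists_inCell P (opp f hf hK) simple_cover g
  obtain ⟨s, t, rfl⟩ := exists_tel f hf hK hτ
  obtain ⟨⟨h0, -⟩, ⟨h1, -⟩⟩ := key ha hb hrep
  obtain ⟨rfl, rfl⟩ := chi_pair_eq_one hK h0 h1
  have ht1 := tel_one f hf hK
  rw [ht1, mul_one] at hrep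
  have iter : ∀ M : List ℕ, (∀ j ∈ M, j < 2) →
      repWord f hf hK M * a * (repWord f hf hK M)⁻¹ ∈ negG (endoF4 f) ∧
        repWord f hf hK M * b * (repWord f hf hK M)⁻¹ ∈ (endoF4 f).posG := by
    intro M
    induction M with
    | nil => intro _; simpa [repWord] using And.intro ha hb
    | cons j M ih =>
      intro hM
      obtain ⟨h2, h3⟩ := ih fun i hi => hM i (List.mem_cons_of_mem _ hi)
      set w := repWord f hf hK M
      obtain ⟨⟨-, hA2, hA3⟩, ⟨-, hB2, hB3⟩⟩ := key (y := w * y) (s := 1) (t := 1) h2 h3 (by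
        rw [ht1, mul_one, show w * y * g * (w * y)⁻¹ = w * (y * g * y⁻¹) * w⁻¹ by group, hrep]
        group)
      have hj : j < 2 := hM j List.mem_cons_self
      have aux : ∀ (r z : ↥(endoF4 f).fix), r * w * z * (r * w)⁻¹ = r * (w * z * w⁻¹) * r⁻¹ :=
        fun r z => by group
      interval_cases j
      · simp only [repWord, ↓reduceIte, w] at *
        rw [aux, aux]
        exact ⟨radN_le (P := P) clA_mem (opp f hf hK)
            (conj_radN (P := P) clA_mem (opp f hf hK) (Or.inl (repA_mem f hf hK)) hA2),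
          radP_le (P := P) clA_mem (conj_radP (P := P) clA_mem (Or.inl (repA_mem f hf hK)) hA3)⟩
      · simp only [repWord, one_ne_zero, ↓reduceIte, w] at *
        rw [aux, aux]
        exact ⟨radN_le (P := P) clB_mem (opp f hf hK)
            (conj_radN (P := P) clB_mem (opp f hf hK) (Or.inl (repB_mem f hf hK)) hB2),
          radP_le (P := P) clB_mem (conj_radP (P := P) clB_mem (Or.inl (repB_mem f hf hK)) hB3)⟩
  obtain ⟨hm8, hM8⟩ := repWord_maps f hf hK [0, 1, 0, 1, 0, 1, 0, 1] (by decide)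
  have hn := w8_neg
  simp only [List.all_eq_true, List.mem_range, beq_iff_eq] at hn
  let O8 : Opp (endoF4 f) := ⟨_, w8, (endoF4 f).wordOK_clsWord (dataOK_F4 f).cls
    (M := [0, 1, 0, 1, 0, 1, 0, 1]) (by decide), hm8, hM8, hn⟩
  obtain ⟨h2, h3⟩ := iter [0, 1, 0, 1, 0, 1, 0, 1] (by decide)
  have hb1 := Endo.SplitHyp.eq_one_of_neg h3 (S := {r | r < tabF4.half}) (fun r hr => hr) (O8.pos_neg hb).1
  have ha1 := Endo.SplitHyp.eq_one_of_neg (O8.neg_pos ha).1 (S := {r | r < tabF4.half}) (fun r hr => hr) h2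
  rw [conj_eq_one_iff] at hb1
  have ha1' : a = 1 := conj_eq_one_iff.1 ha1
  rw [ha1', hb1, mul_one, conj_eq_one_iff] at hrep
  exact hne hrep

/-- The torus part is arbitrary. -/
theorem inT_all (m : ℕ) (hem : e = 2 ^ m) (hm : 1 ≤ m) {g : ↥(endoF4 f).fix} (hne : g ≠ 1)
    (s t : Kˣ) : InT f hf hK g s t := by
  classical
  haveI : Fintype Kˣ := Fintype.ofFinite _
  have hcard : 3 ≤ Fintype.card Kˣ := by
    have h1 := card_units_F4 hK
    rw [Nat.card_eq_fintype_card] at h1
    have : (2 : ℤ) ≤ (e : ℤ) := by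
      have : 2 ^ 1 ≤ 2 ^ m := Nat.pow_le_pow_right (by norm_num) hm
      rw [hem]; exact_mod_cast this
    have h2 : (4 : ℤ) ≤ (e : ℤ) ^ 2 := by nlinarith
    omega
  have hsq : Function.Injective fun a : Kˣ => a ^ 2 := fun a b h => Units.ext (by
    have h' : (a : K) ^ 2 = (b : K) ^ 2 := by simpa using congrArg Units.val h
    exact CharTwo.sq_injective h')
  have case1 : ∀ t₀, (∀ s', InT f hf hK g s' t₀) → InT f hf hK g s t := by
    intro t₀ hall
    set c := t₀ ^ (2 - 2 * (e : ℤ))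
    obtain ⟨r, hr⟩ := Finite.injective_iff_surjective.1 hsq t
    obtain ⟨s₁, hs₁⟩ := Finset.exists_mem_notMem_of_card_lt_card
      (s := ({c, r} : Finset Kˣ)) (t := Finset.univ)
      (lt_of_le_of_lt Finset.card_le_two (by rw [Finset.card_univ]; omega))
    obtain ⟨-, hs₁⟩ := hs₁
    simp only [Finset.mem_insert, Finset.mem_singleton, not_or] at hs₁
    have h1 : F4Root.chi e 1 s₁ t₀ ≠ 1 := by
      rw [chi_one, ne_eq, inv_mul_eq_one]; exact hs₁.1
    have h0 : F4Root.chi e 0 s₁ t ≠ 1 := by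
      rw [chi_zero, ne_eq, mul_inv_eq_one]
      exact fun h => hs₁.2 (hsq (h.trans hr.symm))
    exact moveA_good f hf hK (moveB_good f hf hK m hem (hall s₁) h1 t) h0 s
  rcases exists_move f hf hK m hem hne with ⟨t₀, hall⟩ | ⟨s₀, hall⟩
  · exact case1 t₀ hall
  · obtain ⟨t₀, -, ht₀⟩ := Finset.exists_mem_notMem_of_card_lt_card
      (s := ({s₀ ^ 2} : Finset Kˣ)) (t := Finset.univ) (by rw [Finset.card_univ, Finset.card_singleton]; omega)
    rw [Finset.mem_singleton] at ht₀
    refine case1 t₀ fun s' => moveA_good f hf hK (hall t₀) ?_ s'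
    rw [chi_zero, ne_eq, mul_inv_eq_one]
    exact fun h => ht₀ h.symm

/-! ### Fixed-point-free torus elements -/

theorem fix_free {a b : Kˣ} (P : Set ℕ) (hP : P ⊆ posSet tabF4) (hPc : CommClosed tabF4 P)
    (hk : ∀ k < 12, (Endo.orbL dataTwF4.L k).root ∈ P → F4Root.chi e k a b ≠ 1)
    {u : ↥(endoF4 f).fix} (hu : (u : GL chevF4.Idx K) ∈ gen chevF4 K P)
    (hc : Commute u (tel f hf hK a b)) : u = 1 := by
  have hl : dataTwF4.L.length = 12 := rfl
  have hall : ∀ k, k ≤ 12 → u ∈ (endoF4 f).lay dataTwF4.L k := by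
    intro k
    induction k with
    | zero =>
      intro _
      rw [lay0_eq f, posG_eq]
      exact Subgroup.mem_subgroupOf.2 (gen_mono _ hP hu)
    | succ k ih =>
      intro hk'
      have h1 := ih (by omega)
      refine (endoF4 f).mem_succ_of_crd (layersF4 f) (k := k) (by omega) h1 ?_
      by_cases hin : (Endo.orbL dataTwF4.L k).root ∈ P
      · have h2 := crd_tel f hf hK a b (k := k) (by omega) h1
        rw [← hc.eq, mul_inv_cancel_right] at h2
        have h3 : ((F4Root.chi e k a b : K) - 1) * (endoF4 f).crd dataTwF4.L k u = 0 := by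
          rw [sub_mul, one_mul, ← h2, sub_self]
        refine (mul_eq_zero.1 h3).resolve_left (sub_ne_zero.2 fun h => hk k (by omega) hin (Units.ext h))
      · have hf0 := (endoF4 f).free_root (layersF4 f) (k := k) (by omega)
        refine (endoF4 f).crd_eq (layersF4 f) (by omega) ?_
        rw [Endo.InC, certF4.X_zero (hf0.sub hf0.mem).2, inv_one, one_mul]
        refine gen_mono _ (fun r hr => ?_) (certF4.gen_inter hP hPc hf0.sub hf0.closed hu
          (((endoF4 f).mem_lay _).1 h1))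
        exact ⟨hr.2, fun e0 => hin (by rw [← (e0 : r = _)]; exact hr.1)⟩
  have h12 := hall 12 le_rfl
  rw [(endoF4 f).lay_of_length_le dataTwF4.L (le_of_eq hl), Subgroup.mem_bot] at h12
  exact h12

theorem fix_free_neg {a b : Kˣ}
    (hk : ∀ k < 12, F4Root.chi e k a b ≠ 1)
    {u : ↥(endoF4 f).fix} (hu : u ∈ negG (endoF4 f)) (hc : Commute u (tel f hf hK a b)) : u = 1 := by
  set O := opp f hf hK
  have h1 : O.n⁻¹ * u * O.n = 1 := by
    refine fix_free f hf hK (a := a) (b := b) (posSet tabF4) subset_rfl certF4.commClosed_posSet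
      (fun k hk' _ => hk k hk') (u := O.n⁻¹ * u * O.n) ?_ ?_
    · have := (O.neg_pos hu).2
      rw [posG_eq] at this
      exact Subgroup.mem_subgroupOf.1 this
    · have h2 := (SemiconjBy.conj_mk (O.n⁻¹) u).eq
      have h3 : Commute (O.n⁻¹ * u * O.n) (O.n⁻¹ * tel f hf hK a b * O.n) := by
        show _ * _ = _ * _
        calc O.n⁻¹ * u * O.n * (O.n⁻¹ * tel f hf hK a b * O.n) =
            O.n⁻¹ * (u * tel f hf hK a b) * O.n := by group
          _ = _ := by rw [hc.eq]; group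
      rw [O.inverts (tel_mem f hf hK a b)] at h3
      simpa using h3.inv_right
  calc u = O.n * (O.n⁻¹ * u * O.n) * O.n⁻¹ := by group
    _ = 1 := by rw [h1]; group

omit hf in
/-- A regular torus element exists for `q ≥ 32`. -/
theorem exists_regular (he : 4 ≤ e) : ∃ a b : Kˣ, ∀ k < 12, F4Root.chi e k a b ≠ 1 := by
  classical
  haveI : Fintype Kˣ := Fintype.ofFinite _
  set N := Fintype.card Kˣ
  have hN : 12 < N := by
    have h1 := card_units_F4 hK
    rw [Nat.card_eq_fintype_card] at h1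
    have : 16 ≤ e ^ 2 := by nlinarith
    have : (16 : ℤ) ≤ (e : ℤ) ^ 2 := by exact_mod_cast this
    omega
  by_contra hno
  push Not at hno
  let φ : ℕ → Kˣ × Kˣ →* Kˣ := fun k =>
    { toFun := fun p => F4Root.chi e k p.1 p.2
      map_one' := by simp [F4Root.chi]
      map_mul' := fun p p' => chi_mul k p.1 p.2 p'.1 p'.2 }
  have hker : ∀ k < 12, (Finset.univ.filter fun p : Kˣ × Kˣ => φ k p = 1).card = N := by
    intro k hk
    have hs : Function.Surjective (φ k) := fun c => by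
      obtain ⟨a, b, h⟩ := exists_chi hK hk c
      exact ⟨(a, b), h⟩
    have h1 := Subgroup.card_eq_card_quotient_mul_card_subgroup (φ k).ker
    rw [Nat.card_congr (QuotientGroup.quotientKerEquivOfSurjective (φ k) hs).toEquiv, Nat.card_prod,
      Nat.card_eq_fintype_card] at h1
    have h2 : Nat.card ↥(φ k).ker = N := Nat.eq_of_mul_eq_mul_left (by omega) h1.symm
    rw [← h2, Nat.card_eq_fintype_card, Fintype.card_subtype]
    exact congrArg Finset.card (Finset.filter_congr fun p _ => MonoidHom.mem_ker.symm)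
  have hsub : (Finset.univ : Finset (Kˣ × Kˣ)) ⊆
      (Finset.range 12).biUnion fun k => Finset.univ.filter fun p => φ k p = 1 := fun p _ => by
    obtain ⟨k, hk, h⟩ := hno p.1 p.2
    exact Finset.mem_biUnion.2 ⟨k, Finset.mem_range.2 hk, Finset.mem_filter.2 ⟨Finset.mem_univ _, h⟩⟩
  have h1 := (Finset.card_le_card hsub).trans Finset.card_biUnion_le
  rw [Finset.sum_congr rfl fun k hk => hker k (Finset.mem_range.1 hk), Finset.sum_const,
    Finset.card_range, smul_eq_mul, Finset.card_univ, Fintype.card_prod] at h1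
  nlinarith

/-- The square of the class of a regular torus element covers the group apart from the identity. -/
theorem square_big (m : ℕ) (hem : e = 2 ^ m) (hm : 2 ≤ m) :
    ∃ x : ↥(endoF4 f).fix, Odd (orderOf x) ∧
      ∀ g, g ≠ 1 → ∃ u v, g = (u * x * u⁻¹) * (v * x * v⁻¹) := by
  have he4 : 4 ≤ e := by
    rw [hem]; exact le_trans (by norm_num) (Nat.pow_le_pow_right (by norm_num) hm)
  obtain ⟨a, b, hk⟩ := exists_regular hK he4
  set h := tel f hf hK a b
  refine ⟨h, ?_, fun g hg => ?_⟩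
  · haveI : Fintype Kˣ := Fintype.ofFinite _
    have hpow : ∀ n : ℕ, h ^ n = tel f hf hK (a ^ n) (b ^ n) := fun n => by
      induction n with
      | zero => simp [tel_one]
      | succ n ih => rw [pow_succ, ih, pow_succ a, pow_succ b, tel_mul]
    have h1 : h ^ Nat.card Kˣ = 1 := by
      rw [hpow, pow_card_eq_one', pow_card_eq_one', tel_one]
    refine Odd.of_dvd_nat ?_ (orderOf_dvd_of_pow_eq_one h1)
    have := card_units_F4 hK
    rw [Nat.odd_iff]; omega
  · obtain ⟨y, u, hu, v, hv, hrep⟩ := inT_all f hf hK m hem (by omega) hg (a * a) (b * b)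
    rw [tel_mul] at hrep
    have hn : ∀ w ∈ negG (endoF4 f), h * w * h⁻¹ ∈ negG (endoF4 f) := fun w hw => by
      rw [negG, Subgroup.mem_subgroupOf, Subgroup.coe_mul, Subgroup.coe_mul, Subgroup.coe_inv]
      exact (Subgroup.mem_normalizer_iff.1 (certF4.diagonal_le_normalizer_gen (F := K)
        (S := {r | r < tabF4.half}) (fun r hr => lt_of_lt_of_le hr (by decide +kernel))
        (Subgroup.mem_subgroupOf.1 (tel_mem f hf hK a b))) _).1 (Subgroup.mem_subgroupOf.1 hw)
    have hp : ∀ w ∈ (endoF4 f).posG, h * w * h⁻¹ ∈ (endoF4 f).posG := fun w hw => by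
      rw [posG_eq] at hw ⊢
      rw [Subgroup.mem_subgroupOf, Subgroup.coe_mul, Subgroup.coe_mul, Subgroup.coe_inv]
      exact (Subgroup.mem_normalizer_iff.1 (certF4.diagonal_le_normalizer_gen (F := K)
        (S := posSet tabF4) (fun r hr => hr.2)
        (Subgroup.mem_subgroupOf.1 (tel_mem f hf hK a b))) _).1 (Subgroup.mem_subgroupOf.1 hw)
    obtain ⟨c1, hc1⟩ := isConj_iff.1 (CfsgLib.ClassSquare.isConj_mul_of_fix hn
      (fun w hw hc => fix_free_neg f hf hK hk hw hc) hu)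
    obtain ⟨c2, hc2⟩ := isConj_iff.1 (CfsgLib.ClassSquare.isConj_mul_right_of_fix hp
      (fun w hw hc => fix_free f hf hK _ subset_rfl certF4.commClosed_posSet (fun k hk' _ => hk k hk')
        (by rw [posG_eq] at hw; exact Subgroup.mem_subgroupOf.1 hw) hc) hv)
    refine ⟨y⁻¹ * c1, y⁻¹ * c2, ?_⟩
    calc g = y⁻¹ * (y * g * y⁻¹) * y := by group
      _ = y⁻¹ * ((u * h) * (h * v)) * y := by rw [hrep]; simp only [h, mul_assoc]
      _ = _ := by rw [← hc1, ← hc2]; group

end CfsgLib.ClassSquare.LargeRee
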