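import Cfsg.Agent.Lib.Chev.FixSplit

/-!
Gauss decompositions in the fixed points of an endomorphism: every element is conjugate into the big
cell, and the torus part changes by the torus of a class at which the element is movable.
-/

set_option autoImplicit false
set_option linter.unusedSectionVars false

namespace CfsgLib.ClassSquare.LargeRee

open Cfsg.Lie CfsgLib.Chev Matrix
open CfsgLib.Chev.Cert (Maps_mul Maps_inv conj_gen_le mem_cellList diagonal_le_monomial)

variable {D : ChevalleyDatum} {T : Tab} {C : Tab.Cover} {h : Cert D T C} {F : Type*} [Field F]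
  [Finite F] (E : Endo h F)

/-- A fixed monomial element acting on the roots as the negation. -/
structure Opp where
  /-- the element -/
  n : ↥E.fix
  /-- its word -/
  w : List ℕ
  ok : WordOK T w
  mon : n ∈ E.monG
  maps : ∀ r < T.n, Maps D (n : GL D.Idx F) r (rword T w r)
  neg : ∀ r < T.n, rword T w r = T.neg r

/-- The fixed negative unipotent group. -/
noncomputable def negG : Subgroup ↥E.fix := (gen D F {r | r < T.half}).subgroupOf E.fix

/-- The fixed radical of a class. -/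
noncomputable def radP (c : Cls) : Subgroup ↥E.fix :=
  (gen D F (radSet D T (Endo.clsSet c))).subgroupOf E.fix

/-- The fixed opposite radical of a class. -/
noncomputable def radN (c : Cls) : Subgroup ↥E.fix :=
  (gen D F {r | r < T.n ∧ T.neg r ∈ radSet D T (Endo.clsSet c)}).subgroupOf E.fix

/-- Conjugate into the part of the big cell with torus element `t`. -/
def InCell (g t : ↥E.fix) : Prop :=
  ∃ y, ∃ a ∈ negG E, ∃ b ∈ E.posG, y * g * y⁻¹ = a * t * b

variable {E}

lemma posG_eq : E.posG = (gen D F (posSet T)).subgroupOf E.fix := by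
  rw [Endo.posG, h.posUnipotent_eq]

lemma conj_sub {g x : ↥E.fix} {w : List ℕ}
    (hM : ∀ r < T.n, Maps D (g : GL D.Idx F) r (rword T w r)) {S S' : Set ℕ}
    (hS : ∀ r ∈ S, r < T.n ∧ rword T w r ∈ S') (hx : x ∈ (gen D F S).subgroupOf E.fix) :
    g * x * g⁻¹ ∈ (gen D F S').subgroupOf E.fix := by
  rw [Subgroup.mem_subgroupOf, Subgroup.coe_mul, Subgroup.coe_mul, Subgroup.coe_inv]
  exact conj_gen_le (fun r hr => ⟨_, (hS r hr).2, hM r (hS r hr).1⟩) (Subgroup.mem_subgroupOf.1 hx)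

namespace Opp

variable (O : Opp E)
include O

lemma inv_maps {r : ℕ} (hr : r < T.n) :
    Maps D ((O.n⁻¹ : ↥E.fix) : GL D.Idx F) r (rword T O.w r) := by
  rw [Subgroup.coe_inv]
  have h1 := Maps_inv (O.maps _ (h.rword_lt O.ok hr))
  rwa [O.neg _ (h.rword_lt O.ok hr), O.neg _ hr, Cert.neg_neg (T := T) hr, ← O.neg _ hr] at h1

lemma conj_mem {S S' : Set ℕ} (hS : ∀ r ∈ S, r < T.n ∧ T.neg r ∈ S') {x : ↥E.fix}
    (hx : x ∈ (gen D F S).subgroupOf E.fix) :
    O.n * x * O.n⁻¹ ∈ (gen D F S').subgroupOf E.fix ∧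
      O.n⁻¹ * x * O.n ∈ (gen D F S').subgroupOf E.fix := by
  refine ⟨conj_sub O.maps (fun r hr => ⟨(hS r hr).1, by rw [O.neg r (hS r hr).1]; exact (hS r hr).2⟩) hx,
    ?_⟩
  have := conj_sub (g := O.n⁻¹) (w := O.w) (fun r hr => O.inv_maps hr)
    (fun r hr => ⟨(hS r hr).1, by rw [O.neg r (hS r hr).1]; exact (hS r hr).2⟩) hx
  rwa [inv_inv] at this

lemma pos_neg {x : ↥E.fix} (hx : x ∈ E.posG) :
    O.n * x * O.n⁻¹ ∈ negG E ∧ O.n⁻¹ * x * O.n ∈ negG E := by
  rw [posG_eq] at hx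
  refine O.conj_mem (fun r hr => ⟨hr.2, ?_⟩) hx
  by_contra hn
  have := (h.half_le_neg_iff hr.2).1 (not_lt.1 hn)
  exact absurd hr.1 (not_le.2 this)

lemma neg_pos {x : ↥E.fix} (hx : x ∈ negG E) :
    O.n * x * O.n⁻¹ ∈ E.posG ∧ O.n⁻¹ * x * O.n ∈ E.posG := by
  rw [posG_eq]
  refine O.conj_mem (fun r hr => ?_) hx
  have hn : r < T.n := lt_of_lt_of_le hr (by have := h.two_mul_half; omega)
  exact ⟨hn, (h.half_le_neg_iff hn).2 hr, Cert.neg_lt (T := T) hn⟩

end Opp

variable {d : Endo.Data T} {e Q : ℕ} (P : E.SplitHyp d e Q) (O : Opp E)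

include P O in
/-- Every element is conjugate into the big cell. -/
theorem exists_inCell (hsimple : ∀ j < T.l, ∃ c ∈ d.CL, T.simple j ∈ Endo.clsPos T c) (g : ↥E.fix) :
    ∃ t ∈ E.diaG, InCell E g t := by
  classical
  have hC := P.ok.cls
  let cnt : List ℕ → ℕ := fun w =>
    ((Finset.range T.n).filter fun r => T.half ≤ r ∧ rword T w r < T.half).card
  have main : ∀ N, ∀ (y u1 m u2 : ↥E.fix) (w : List ℕ), WordOK T w → E.Comm w → m ∈ E.monG →
      (∀ r < T.n, Maps D (m : GL D.Idx F) r (rword T w r)) → u1 ∈ E.posG → u2 ∈ E.posG →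
      O.n * (y * g * y⁻¹) = u1 * m * u2 → T.n - cnt w = N → ∃ t ∈ E.diaG, InCell E g t := by
    intro N
    induction N using Nat.strong_induction_on with
    | _ N ih =>
      intro y u1 m u2 w hw hwc hm hM hu1 hu2 e' hN
      have hwr : WordOK T w.reverse := fun i hi => hw i (List.mem_reverse.1 hi)
      have hrev' : ∀ r < T.n, rword T w (rword T w.reverse r) = r := fun r hr => h.rword_reverse hw hr
      have hrev : ∀ r < T.n, rword T w.reverse (rword T w r) = r := fun r hr => by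
        have := h.rword_reverse hwr hr
        rwa [List.reverse_reverse] at this
      have hMr : ∀ r < T.n, Maps D ((m⁻¹ : ↥E.fix) : GL D.Idx F) r (rword T w.reverse r) := fun r hr => by
        rw [Subgroup.coe_inv]
        have h1 := Maps_inv (hM _ (h.rword_lt hwr hr))
        rwa [hrev' r hr] at h1
      by_cases hex : ∃ c ∈ d.CL, ∀ r ∈ Endo.clsPos T c, T.half ≤ rword T w.reverse r
      · obtain ⟨c, hc, hpos⟩ := hex
        obtain ⟨i, hi, rfl⟩ := List.getElem_of_mem hc
        obtain ⟨x, hx, hx1⟩ := P.exists_ne_one ⟨i, hi⟩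
        obtain ⟨s, hs⟩ := P.exists_rep0 ⟨i, hi⟩
        have hx' : x ∈ E.clsX d.CL[i] := hx
        have hs' : E.IsRep d.CL[i] s := hs
        obtain ⟨a, ha, m', hm', b, hb, eb⟩ := E.class_bru hC hc P.reps hs' hx' hx1
        have hz' : s * x * s⁻¹ ∈ negG E := Subgroup.comap_mono
          (gen_mono D fun r hr => E.clsNeg_lt hC hc hr) (E.conj_rep_X hC hc hs' hx')
        have hbu : b * u1 ∈ E.posG := mul_mem (E.clsX_le_posG hC hc hb) hu1
        obtain ⟨a', ha', b', hb', eab⟩ := E.split_class hC hc hbu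
        have ha'' : m' * a' * m'⁻¹ ∈ E.posG := by
          rw [posG_eq]
          refine conj_sub hm'.2 (S := radSet D T (Endo.clsSet d.CL[i])) (fun r hr => ⟨hr.1.2, ?_⟩) ha'
          exact (E.word_rad hC hc hr.1 fun hin => hr.2 ((E.clsPos_iff hC hc).1 hin).2).1
        have hb'' : m⁻¹ * b' * m ∈ E.posG := by
          rw [posG_eq]
          have := conj_sub (g := m⁻¹) (w := w.reverse) hMr (S := Endo.clsPos T d.CL[i])
            (S' := posSet T) (fun r hr => ⟨(mem_cellList.1 hr).1.2, hpos r hr,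
              h.rword_lt hwr (mem_cellList.1 hr).1.2⟩) hb'
          rwa [inv_inv] at this
        set z := O.n⁻¹ * (s * x * s⁻¹) * O.n with hz
        have hv := hC.wordOK E hc
        have hwv : WordOK T (d.CL[i].word ++ w) := fun a ha =>
          (List.mem_append.1 ha).elim (hv a) (hw a)
        have hlt : cnt w < cnt (d.CL[i].word ++ w) := by
          refine Finset.card_lt_card (Finset.ssubset_iff_of_subset (fun r hr => ?_) |>.2 ?_)
          · obtain ⟨hr1, hr2, hr3⟩ := Finset.mem_filter.1 hr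
            rw [Finset.mem_range] at hr1
            refine Finset.mem_filter.2 ⟨Finset.mem_range.2 hr1, hr2, ?_⟩
            rw [rword_append]
            by_contra hn
            have hxn := h.rword_lt hw hr1
            set x' := rword T w r
            have hcx : rword T d.CL[i].word x' ∈ Endo.clsPos T d.CL[i] := mem_cellList.2
              ⟨⟨not_lt.1 hn, h.rword_lt hv hxn⟩, by rw [hC.invol _ hc x' hxn]; exact hr3⟩
            have h4 := (E.word_clsPos hC hc hcx)
            rw [hC.invol _ hc x' hxn] at h4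
            have h5 := hpos _ h4.2
            rw [h.rword_neg hwr hxn, hrev r hr1] at h5
            exact absurd ((h.half_le_neg_iff hr1).1 h5) (not_lt.2 hr2)
          · obtain ⟨x0, hx0⟩ : ∃ r, r ∈ Endo.clsPos T d.CL[i] := by
              by_contra hno
              push Not at hno
              refine hx1 ?_
              have he : Endo.clsPos T d.CL[i] = ∅ := Set.eq_empty_iff_forall_notMem.2 hno
              have := Subgroup.mem_subgroupOf.1 hx'
              rw [he, show gen D F (∅ : Set ℕ) = ⊥ by simp [gen], Subgroup.mem_bot] at this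
              exact Subtype.ext this
            obtain ⟨⟨h6, h7⟩, h8⟩ := mem_cellList.1 hx0
            refine ⟨rword T w.reverse x0, Finset.mem_filter.2 ⟨Finset.mem_range.2 (h.rword_lt hwr h7),
              hpos _ hx0, by rw [rword_append, hrev' _ h7]; exact h8⟩, fun hm => ?_⟩
            have := (Finset.mem_filter.1 hm).2.2
            rw [hrev' _ h7] at this
            omega
        have hle : cnt (d.CL[i].word ++ w) ≤ T.n :=
          (Finset.card_filter_le _ _).trans (by simp)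
        refine ih _ (by omega) (z * y) (a * (m' * a' * m'⁻¹)) (m' * m) (m⁻¹ * b' * m * (u2 * z⁻¹))
          (d.CL[i].word ++ w) hwv (Endo.Comm.append E hw (hC.comm _ hc) hwc) (mul_mem hm'.1 hm)
          (fun r hr => ?_) (mul_mem (E.clsX_le_posG hC hc ha) ha'')
          (mul_mem hb'' (mul_mem hu2 (inv_mem (O.neg_pos hz').2))) ?_ rfl
        · rw [Subgroup.coe_mul, rword_append]
          exact Maps_mul (hM r hr) (hm'.2 _ (h.rword_lt hw hr))
        · calc O.n * (z * y * g * (z * y)⁻¹) = s * x * s⁻¹ * (O.n * (y * g * y⁻¹)) * z⁻¹ := by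
                rw [hz]; group
            _ = a * m' * (b * u1) * m * u2 * z⁻¹ := by rw [e', eb]; group
            _ = _ := by rw [eab]; group
      · push Not at hex
        have hneg : ∀ j < T.l, rword T w.reverse (T.simple j) < T.half := fun j hj => by
          obtain ⟨c, hc, hjc⟩ := hsimple j hj
          obtain ⟨r, hr, hr'⟩ := hex c hc
          have hwrc : E.Comm w.reverse := fun a ha => by
            have hb := h.rword_lt hwr ha
            have hc' := hwc _ hb
            rw [hrev' a ha] at hc'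
            rw [hc', hrev _ (E.sym.lt _ hb)]
          rcases E.class_dichotomy hC hc hwr hwrc with hp | hn
          · exact absurd (hp r hr) (not_le.2 hr')
          · exact hn _ hjc
        have hall : ∀ r, T.half ≤ r → r < T.n → rword T w.reverse r < T.half := fun r hr hrn =>
          h.rword_neg_of_simple hwr hneg hr hrn
        have hwneg : ∀ r, T.half ≤ r → r < T.n → rword T w r < T.half := fun r hr hrn => by
          by_contra hn
          have := hall _ (not_lt.1 hn) (h.rword_lt hw hrn)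
          rw [hrev r hrn] at this
          omega
        have hok : WordOK T (O.w.reverse ++ w) := fun i hi =>
          (List.mem_append.1 hi).elim (fun hi => O.ok i (List.mem_reverse.1 hi)) (hw i)
        have hOr : WordOK T O.w.reverse := fun i hi => O.ok i (List.mem_reverse.1 hi)
        have hOrev : ∀ x < T.n, rword T O.w.reverse x = T.neg x := fun x hx => by
          have h1 := h.rword_reverse O.ok hx
          rw [O.neg _ (h.rword_lt hOr hx)] at h1
          rw [← h1, Cert.neg_neg (T := T) (h.rword_lt hOr hx), h1]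
        have hid : ∀ r < T.n, rword T (O.w.reverse ++ w) r = r := fun r hr => by
          refine h.rword_eq_self hok (fun j hj => ?_) hr
          rw [rword_append, hOrev _ (h.rword_lt hw (h.simple_lt hj))]
          exact (h.half_le_neg_iff (h.rword_lt hw (h.simple_lt hj))).2
            (hwneg _ (h.simple_spec hj).1 (h.simple_lt hj))
        have hsame : ∀ r < T.n, rword T w r = rword T O.w r := fun r hr => by
          have h1 := hid r hr
          rw [rword_append, hOrev _ (h.rword_lt hw hr)] at h1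
          rw [O.neg r hr, ← h1, Cert.neg_neg (T := T) (h.rword_lt hw hr), h1]
        have ht : O.n⁻¹ * m ∈ E.diaG := by
          refine Subgroup.mem_subgroupOf.2 ?_
          rw [Subgroup.coe_mul, Subgroup.coe_inv]
          exact Endo.diag_of_same_perm (h := h) O.ok hw (Subgroup.mem_subgroupOf.1 O.mon)
            (Subgroup.mem_subgroupOf.1 hm) O.maps hM (fun r hr => (hsame r hr).symm)
        refine ⟨_, ht, y, O.n⁻¹ * u1 * O.n, (O.pos_neg hu1).2, u2, hu2, ?_⟩
        rw [← inv_mul_cancel_left O.n (y * g * y⁻¹), e']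
        group
  obtain ⟨w, hw, hwc, m, -, hmf, hmn, hmM, b, hb, u, hu, e'⟩ :=
    E.bruhat_fix hC P.reps (O.n * g).2
  obtain ⟨u1, hu1, t, ht, rfl⟩ := E.borel_fix.1 hb
  refine main _ 1 ⟨u1, hu1.1⟩ (⟨t, ht.1⟩ * ⟨m, hmf⟩) ⟨u, hu.1⟩ w hw hwc
    (mul_mem (Subgroup.comap_mono diagonal_le_monomial (Subgroup.mem_subgroupOf.2 ht.2))
      (Subgroup.mem_subgroupOf.2 hmn)) (fun r hr => ?_) (Subgroup.mem_subgroupOf.2 hu1.2)
    (Subgroup.mem_subgroupOf.2 (Endo.cellUnipotent_le_pos (h := h) hw hmM hu.2)) ?_ rfl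
  · rw [Subgroup.coe_mul]
    exact Maps_mul (hmM r hr) (h.Maps_diagonal ht.2 (h.rword_lt hw hr))
  · refine Subtype.ext ?_
    simp only [one_mul, inv_one, mul_one, Subgroup.coe_mul] at e' ⊢
    rw [e']
    group

/-! ### The radicals -/

variable {P O}
variable {c : Cls} (hc : c ∈ d.CL)

include P hc in
lemma radP_le : radP E c ≤ E.posG := by
  rw [posG_eq]
  exact Subgroup.comap_mono (gen_mono D fun r hr => hr.1)

include P hc in
lemma conj_radP {l : ↥E.fix} (hl : l ∈ E.clsL c ∨ l ∈ E.diaG) {a : ↥E.fix} (ha : a ∈ radP E c) :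
    l * a * l⁻¹ ∈ radP E c := by
  have hlev : (l : GL D.Idx F) ∈ D.leviSubgroup F (Endo.clsSet c) := by
    rcases hl with hl | hl
    · exact E.clsL_le_levi P.ok.cls hc ⟨l, hl, rfl⟩
    · rw [h.leviSubgroup_eq]; exact Subgroup.mem_sup_left (Subgroup.mem_subgroupOf.1 hl)
  rw [radP, Subgroup.mem_subgroupOf, Subgroup.coe_mul, Subgroup.coe_mul, Subgroup.coe_inv]
  exact E.levi_normalizes P.ok.cls hc hlev (Subgroup.mem_subgroupOf.1 ha)

lemma conj_radP_radN (O : Opp E) {a : ↥E.fix} (ha : a ∈ radP E c) :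
    O.n * a * O.n⁻¹ ∈ radN E c ∧ O.n⁻¹ * a * O.n ∈ radN E c :=
  O.conj_mem (S' := {r | r < T.n ∧ T.neg r ∈ radSet D T (Endo.clsSet c)})
    (fun r hr => ⟨hr.1.2, Cert.neg_lt (T := T) hr.1.2, by
      rw [Cert.neg_neg (T := T) hr.1.2]; exact hr⟩) ha

lemma conj_radN_radP (O : Opp E) {a : ↥E.fix} (ha : a ∈ radN E c) :
    O.n * a * O.n⁻¹ ∈ radP E c ∧ O.n⁻¹ * a * O.n ∈ radP E c :=
  O.conj_mem (fun r hr => ⟨hr.1, hr.2⟩) ha

lemma conj_clsX_clsY (O : Opp E) {x : ↥E.fix} (hx : x ∈ E.clsX c) :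
    O.n * x * O.n⁻¹ ∈ E.clsY c ∧ O.n⁻¹ * x * O.n ∈ E.clsY c :=
  O.conj_mem (S' := Endo.clsNeg T c)
    (fun r hr => ⟨(mem_cellList.1 hr).1.2, Cert.neg_lt (T := T) (mem_cellList.1 hr).1.2, by
      rw [Cert.neg_neg (T := T) (mem_cellList.1 hr).1.2]; exact hr⟩) hx

lemma conj_clsY_clsX (O : Opp E) {x : ↥E.fix} (hx : x ∈ E.clsY c) :
    O.n * x * O.n⁻¹ ∈ E.clsX c ∧ O.n⁻¹ * x * O.n ∈ E.clsX c :=
  O.conj_mem (fun r hr => ⟨hr.1, hr.2⟩) hx

include P hc in
lemma conj_radN (O : Opp E) {l : ↥E.fix} (hl : l ∈ E.clsL c ∨ l ∈ E.diaG) {a : ↥E.fix}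
    (ha : a ∈ radN E c) : l * a * l⁻¹ ∈ radN E c := by
  set l' := O.n⁻¹ * l * O.n
  have hl' : l' ∈ E.clsL c ∨ l' ∈ E.diaG := by
    rcases hl with hl | hl
    · left
      have hle : E.clsL c ≤ (E.clsL c).comap (MulAut.conj O.n⁻¹).toMonoidHom := by
        refine sup_le (fun x hx => Subgroup.mem_sup_right ?_) (fun x hx => Subgroup.mem_sup_left ?_)
        · simpa using (conj_clsX_clsY O hx).2
        · simpa using (conj_clsY_clsX O hx).2
      simpa [l'] using hle hl
    · right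
      refine Subgroup.mem_subgroupOf.2 ?_
      have := Endo.diag_conj (h := h) (Subgroup.mem_subgroupOf.1 (inv_mem O.mon))
        (Subgroup.mem_subgroupOf.1 hl)
      simpa [l'] using this
  have h1 := conj_radP (P := P) hc hl' (conj_radN_radP O ha).2
  have h2 := (conj_radP_radN O h1).1
  convert h2 using 1
  simp only [l']; group

include P hc in
lemma radN_le (O : Opp E) : radN E c ≤ negG E := fun a ha => by
  have h1 := radP_le (P := P) hc (conj_radN_radP O ha).2
  simpa [mul_assoc] using (O.pos_neg h1).1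

include P hc in
lemma clsY_le_negG : E.clsY c ≤ negG E :=
  Subgroup.comap_mono (gen_mono D fun r hr => E.clsNeg_lt P.ok.cls hc hr)

include P hc in
lemma split_neg (O : Opp E) {a : ↥E.fix} (ha : a ∈ negG E) :
    ∃ a' ∈ radN E c, ∃ y ∈ E.clsY c, a = a' * y := by
  obtain ⟨a', ha', x, hx, e'⟩ := E.split_class P.ok.cls hc (O.neg_pos ha).2
  refine ⟨_, (conj_radP_radN O (Subgroup.mem_subgroupOf.2 ha')).1, _, (conj_clsX_clsY O hx).1, ?_⟩
  calc a = O.n * (O.n⁻¹ * a * O.n) * O.n⁻¹ := by group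
    _ = _ := by rw [e']; group

/-! ### The moves -/

/-- The torus elements `τ` reached by the products `s * e`. -/
def Cover (E : Endo h F) (c : Cls) (Tc : Set ↥E.fix) : Prop :=
  ∀ y ∈ E.clsY c, y ≠ 1 → ∀ τ ∈ Tc, ∃ s ∈ E.clsX c, ∃ y' ∈ E.clsY c, ∃ x ∈ E.clsX c, s * y = y' * τ * x

include P hc in
/-- Changing the torus part at a movable class. -/
theorem move (O : Opp E) {Tc : Set ↥E.fix} (hcov : Cover E c Tc) (hTd : ∀ τ ∈ Tc, τ ∈ E.diaG)
    (hTi : ∀ τ ∈ Tc, O.n⁻¹ * τ * O.n = τ⁻¹) (hab : ∀ s ∈ E.diaG, ∀ t ∈ E.diaG, Commute s t)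
    {g y a u t x b : ↥E.fix} (ht : t ∈ E.diaG) (ha : a ∈ radN E c) (hu : u ∈ E.clsY c)
    (hx : x ∈ E.clsX c) (hb : b ∈ radP E c) (hrep : y * g * y⁻¹ = a * u * t * (x * b))
    (hmov : u ≠ 1 ∨ x ≠ 1 ∨ ∃ s ∈ E.clsX c, ¬ Commute s t) {τ : ↥E.fix} (hτ : τ ∈ Tc) :
    InCell E g (τ * t) := by
  have hC := P.ok.cls
  have hLX : ∀ {s}, s ∈ E.clsX c → s ∈ E.clsL c := fun hs => Subgroup.mem_sup_left hs
  have hLY : ∀ {s}, s ∈ E.clsY c → s ∈ E.clsL c := fun hs => Subgroup.mem_sup_right hs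
  have fin : ∀ {z a' u' x' b' : ↥E.fix}, a' ∈ radN E c → u' ∈ E.clsY c → x' ∈ E.clsX c →
      b' ∈ radP E c → z * g * z⁻¹ = a' * u' * (τ * t) * (x' * b') → InCell E g (τ * t) :=
    fun {z a' u' x' b'} h1 h2 h3 h4 h5 => ⟨z, a' * u',
      mul_mem (radN_le (P := P) hc O h1) (clsY_le_negG (P := P) hc h2), x' * b',
      mul_mem (E.clsX_le_posG hC hc h3) (radP_le (P := P) hc h4), h5⟩
  have upper : ∀ {z a' x' b' : ↥E.fix}, a' ∈ radN E c → x' ∈ E.clsX c → b' ∈ radP E c →
      z * g * z⁻¹ = a' * t * (x' * b') → x' ≠ 1 → InCell E g (τ * t) := by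
    intro z a' x' b' h1 h2 h3 h4 h5
    have hy0 : O.n * x'⁻¹ * O.n⁻¹ ∈ E.clsY c := (conj_clsX_clsY O (inv_mem h2)).1
    obtain ⟨s, hs, y', hy', x'', hx'', es⟩ :=
      hcov _ hy0 (by rw [ne_eq, conj_eq_one_iff, inv_eq_one]; exact h5) τ hτ
    set v := O.n⁻¹ * s * O.n
    have hv : v ∈ E.clsY c := (conj_clsX_clsY O hs).2
    have hu' : O.n⁻¹ * x''⁻¹ * O.n ∈ E.clsY c := (conj_clsX_clsY O (inv_mem hx'')).2
    have hxx : O.n⁻¹ * y'⁻¹ * O.n ∈ E.clsX c := (conj_clsY_clsX O (inv_mem hy')).2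
    have e1 : x' * v⁻¹ = O.n⁻¹ * x''⁻¹ * O.n * τ * (O.n⁻¹ * y'⁻¹ * O.n) := by
      calc x' * v⁻¹ = O.n⁻¹ * (s * (O.n * x'⁻¹ * O.n⁻¹))⁻¹ * O.n := by simp only [v]; group
        _ = O.n⁻¹ * x''⁻¹ * O.n * (O.n⁻¹ * τ * O.n)⁻¹ * (O.n⁻¹ * y'⁻¹ * O.n) := by rw [es]; group
        _ = _ := by rw [hTi τ hτ, inv_inv]
    have htu : t * (O.n⁻¹ * x''⁻¹ * O.n) * t⁻¹ ∈ E.clsY c :=
      E.conj_diaG_gen hC hc (S := Endo.clsNeg T c) (fun r hr => hr.1) ht hu'
    refine fin (z := v * z) (conj_radN (P := P) hc O (Or.inl (hLY hv)) h1) (mul_mem hv htu) hxx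
      (conj_radP (P := P) hc (Or.inl (hLY hv)) h3) ?_
    calc v * z * g * (v * z)⁻¹ = v * (z * g * z⁻¹) * v⁻¹ := by group
      _ = (v * a' * v⁻¹) * v * t * (x' * v⁻¹) * (v * b' * v⁻¹) := by rw [h4]; group
      _ = (v * a' * v⁻¹) * (v * (t * (O.n⁻¹ * x''⁻¹ * O.n) * t⁻¹)) * (t * τ) *
          ((O.n⁻¹ * y'⁻¹ * O.n) * (v * b' * v⁻¹)) := by rw [e1]; group
      _ = _ := by rw [(hab t ht τ (hTd τ hτ)).eq]
  by_cases hu1 : u = 1
  · subst hu1
    rw [mul_one] at hrep
    by_cases hx1 : x = 1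
    · subst hx1
      obtain ⟨s, hs, hns⟩ := (hmov.resolve_left fun e => e rfl).resolve_left fun e => e rfl
      rw [one_mul] at hrep
      have hs' : t⁻¹ * s * t ∈ E.clsX c := by
        simpa using E.diaG_clsX hC hc (inv_mem ht) hs
      refine upper (z := s * y) (conj_radN (P := P) hc O (Or.inl (hLX hs)) ha)
        (mul_mem hs' (inv_mem hs)) (conj_radP (P := P) hc (Or.inl (hLX hs)) hb) ?_ fun e => hns ?_
      · calc s * y * g * (s * y)⁻¹ = s * (y * g * y⁻¹) * s⁻¹ := by group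
          _ = _ := by rw [hrep]; group
      · calc s * t = t * (t⁻¹ * s * t * s⁻¹) * s := by group
          _ = t * s := by rw [e, mul_one]
    · exact upper ha hx hb hrep hx1
  · obtain ⟨s, hs, y', hy', x', hx', es⟩ := hcov u hu hu1 τ hτ
    have hx'' : t⁻¹ * x' * t ∈ E.clsX c := by simpa using E.diaG_clsX hC hc (inv_mem ht) hx'
    refine fin (z := s * y) (conj_radN (P := P) hc O (Or.inl (hLX hs)) ha) hy'
      (mul_mem (mul_mem hx'' hx) (inv_mem hs)) (conj_radP (P := P) hc (Or.inl (hLX hs)) hb) ?_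
    calc s * y * g * (s * y)⁻¹ = s * (y * g * y⁻¹) * s⁻¹ := by group
      _ = (s * a * s⁻¹) * (s * u) * t * x * s⁻¹ * (s * b * s⁻¹) := by rw [hrep]; group
      _ = _ := by rw [es]; group

end CfsgLib.ClassSquare.LargeRee
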