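import Mathlib

/-!
Every element of the Suzuki group over eight elements of the two shapes needed is a product of two
conjugates of one element of order five (generated data, checked by the kernel).
-/

set_option autoImplicit false
set_option maxRecDepth 100000

namespace CfsgLib.ClassSquare.LargeRee.SzEight

/-- The multiplication table of the field with eight elements. -/
def mlTab : ℕ := 2821848294356612419217921029917578219971947684264937521152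

/-- Multiplication of codes. -/
def ml (a b : ℕ) : ℕ := (mlTab >>> (3 * (8 * (a % 8) + b % 8))) % 8

/-- The code of a point matrix. -/
def ptM (c : ℕ) : List ℕ :=
  let t := c % 8
  let u := c / 8 % 8
  let T := ml t t
  let w := ml (ml u u) (ml u u)
  let m := ml T t ^^^ u
  [1, 0, 0, 0, T, 1, 0, 0, m, t, 1, 0, ml T m ^^^ w, u, T, 1]

/-- The code of a generator: a point matrix, or the antidiagonal matrix for 64. -/
def genM (c : ℕ) : List ℕ :=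
  if c = 64 then [0, 0, 0, 1, 0, 0, 1, 0, 0, 1, 0, 0, 1, 0, 0, 0] else ptM c

/-- An entry of a product. -/
def mmE (x y : List ℕ) (i j : ℕ) : ℕ :=
  ml (x.getD (4 * i) 0) (y.getD j 0) ^^^ ml (x.getD (4 * i + 1) 0) (y.getD (4 + j) 0) ^^^
    ml (x.getD (4 * i + 2) 0) (y.getD (8 + j) 0) ^^^ ml (x.getD (4 * i + 3) 0) (y.getD (12 + j) 0)

/-- The product of two matrix codes. -/
def mm (x y : List ℕ) : List ℕ :=
  [mmE x y 0 0, mmE x y 0 1, mmE x y 0 2, mmE x y 0 3, mmE x y 1 0, mmE x y 1 1, mmE x y 1 2,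
    mmE x y 1 3, mmE x y 2 0, mmE x y 2 1, mmE x y 2 2, mmE x y 2 3, mmE x y 3 0, mmE x y 3 1,
    mmE x y 3 2, mmE x y 3 3]

/-- The matrix of a word in the generators. -/
def evM : List ℕ → List ℕ
  | [] => [1, 0, 0, 0, 0, 1, 0, 0, 0, 0, 1, 0, 0, 0, 0, 1]
  | c :: w => mm (genM c) (evM w)

/-- The code of the inverse of a generator. -/
def invC (c : ℕ) : ℕ := [0, 9, 26, 35, 44, 53, 62, 23, 8, 1, 18, 43, 36, 61, 54, 31, 16, 25, 10, 51, 60, 37, 46, 7, 24, 17, 2, 59, 52, 45, 38, 15, 32, 41, 58, 3, 12, 21, 30, 55, 40, 33, 50, 11, 4, 29, 22, 63, 48, 57, 42, 19, 28, 5, 14, 39, 56, 49, 34, 27, 20, 13, 6, 47, 64].getD c 0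

/-- The inverse word. -/
def invW (w : List ℕ) : List ℕ := (w.map invC).reverse

/-- The word of the element of order five. -/
def sW : List ℕ := [64, 3]

/-- The conjugators. -/
def cert : List (ℕ × ℕ × List ℕ × List ℕ) := [
  (0, 1, [], [29, 64, 51]),
  (1, 1, [28], [64, 61]),
  (2, 1, [15], [64, 50]),
  (3, 1, [12], [52, 64, 46]),
  (4, 1, [1], [12, 64, 33]),
  (5, 1, [23], [25, 64, 10]),
  (6, 1, [22], [25, 64, 16]),
  (7, 1, [], [56, 64, 34]),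
  (8, 1, [7], [13, 64, 7]),
  (9, 1, [4], [40, 64, 48]),
  (10, 1, [1], [22, 64, 54]),
  (11, 1, [64, 41], [23]),
  (12, 1, [64, 52], [52]),
  (13, 1, [1], [32, 64, 35]),
  (14, 1, [26, 64, 39], []),
  (15, 1, [7], [33, 64, 38]),
  (16, 1, [19], [14, 64, 49]),
  (17, 1, [35], [56, 64, 32]),
  (18, 1, [20], [59, 64, 17]),
  (19, 1, [20], [1, 64, 62]),
  (20, 1, [6], [11, 64, 61]),
  (21, 1, [22], [64, 31]),
  (22, 1, [1], [51, 64, 34]),
  (23, 1, [3], [17, 64, 26]),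
  (24, 1, [], [8, 64, 63]),
  (25, 1, [], [18]),
  (26, 1, [23], [64, 55]),
  (27, 1, [1], [31, 64, 60]),
  (28, 1, [], [4, 64, 41]),
  (29, 1, [49], [64, 2]),
  (30, 1, [24], [43, 64, 20]),
  (31, 1, [8], [15, 64, 30]),
  (32, 1, [64, 61], [8]),
  (33, 1, [63], [64, 6]),
  (34, 1, [13], [50, 64, 9]),
  (35, 1, [5], [64, 48]),
  (36, 1, [26], [64, 40]),
  (37, 1, [6], [4, 64, 42]),
  (38, 1, [], [64, 54, 64, 30]),
  (39, 1, [16], [23, 64, 39]),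
  (40, 1, [64, 18], [55]),
  (41, 1, [2], [6, 64, 33]),
  (42, 1, [], [46, 64, 5]),
  (43, 1, [6], [57, 64, 24]),
  (44, 1, [32], [7, 64, 20]),
  (45, 1, [12, 64, 41], []),
  (46, 1, [6], [3, 64, 53]),
  (47, 1, [27], [47, 64, 17]),
  (48, 1, [29], [64, 58]),
  (49, 1, [22], [35, 64, 59]),
  (50, 1, [5], [8, 64, 10]),
  (51, 1, [3], [4, 64, 48]),
  (52, 1, [31], [27, 64, 44]),
  (53, 1, [4], [25, 64, 36]),
  (54, 1, [2], [50, 64, 28]),
  (55, 1, [31, 64, 58], []),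
  (56, 1, [40], [64, 2]),
  (57, 1, [], [45, 64, 44]),
  (58, 1, [9], [21, 64, 53]),
  (59, 1, [6], [44, 64, 15]),
  (60, 1, [15], [35, 64, 22]),
  (61, 1, [], [23, 64, 33]),
  (62, 1, [10], [49, 64, 35]),
  (63, 1, [6], [31, 64, 37]),
  (0, 9, [4], [20, 64, 63]),
  (1, 9, [50], [64, 58]),
  (2, 9, [28], [38, 64, 12]),
  (3, 9, [8], [35, 64, 46]),
  (4, 9, [4], [54, 64, 41]),
  (5, 9, [15], [25, 64, 24]),
  (6, 9, [], [64, 50, 64, 48]),
  (7, 9, [6], [54, 64, 33]),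
  (8, 9, [], [21, 64, 51]),
  (9, 9, [30], [64, 39]),
  (10, 9, [3], [17, 64, 48]),
  (11, 9, [4], [5, 64, 61]),
  (12, 9, [64, 49], [33]),
  (13, 9, [2], [47, 64, 46]),
  (14, 9, [15], [5, 64, 52]),
  (15, 9, [], [48, 64, 34]),
  (16, 9, [], [64, 63]),
  (17, 9, [], [26]),
  (18, 9, [64, 52], [23]),
  (19, 9, [12], [35, 64, 40]),
  (20, 9, [], [12, 64, 41]),
  (21, 9, [6], [61, 64, 12]),
  (22, 9, [7], [38, 64, 60]),
  (23, 9, [15], [32, 64, 5]),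
  (24, 9, [7], [40, 64, 2]),
  (25, 9, [24], [63, 64, 5]),
  (26, 9, [5], [35, 64, 5]),
  (27, 9, [20], [64, 2]),
  (28, 9, [2], [3, 64, 27]),
  (29, 9, [3], [52, 64, 46]),
  (30, 9, [3], [12, 64, 40]),
  (31, 9, [1], [44, 64, 43]),
  (32, 9, [10], [23, 64, 47]),
  (33, 9, [64, 53], [6]),
  (34, 9, [], [38, 64, 5]),
  (35, 9, [10], [16, 64, 17]),
  (36, 9, [5], [51, 64, 54]),
  (37, 9, [30, 64, 58], []),
  (38, 9, [5], [3, 64, 4]),
  (39, 9, [7], [18, 64, 8]),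
  (40, 9, [64, 20], [18]),
  (41, 9, [5], [51, 64, 55]),
  (42, 9, [1], [41, 64, 54]),
  (43, 9, [7], [35, 64, 32]),
  (44, 9, [35], [64, 45]),
  (45, 9, [7], [30, 64, 12]),
  (46, 9, [17], [64, 12]),
  (47, 9, [8], [21, 64, 43]),
  (48, 9, [44], [64, 25]),
  (49, 9, [], [37, 64, 44]),
  (50, 9, [11], [5, 64, 56]),
  (51, 9, [7], [56, 64, 60]),
  (52, 9, [6], [34, 64, 12]),
  (53, 9, [], [31, 64, 33]),
  (54, 9, [11], [2, 64, 59]),
  (55, 9, [64, 22], [4]),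
  (56, 9, [2], [33, 64, 22]),
  (57, 9, [9], [4, 64, 12]),
  (58, 9, [2], [2, 64, 55]),
  (59, 9, [64, 10], [28]),
  (60, 9, [8], [64, 33]),
  (61, 9, [14], [54, 64, 16]),
  (62, 9, [64, 40], [24]),
  (63, 9, [22], [10, 64, 57]),
  (0, 17, [45], [64, 51]),
  (1, 17, [6], [64, 14]),
  (2, 17, [29], [1, 64, 35]),
  (3, 17, [5], [32, 64, 41]),
  (4, 17, [12], [28, 64, 19]),
  (5, 17, [12], [38, 64, 1]),
  (6, 17, [1], [21, 64, 34]),
  (7, 17, [11], [15, 64, 56]),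
  (8, 17, [], [24, 64, 63]),
  (9, 17, [], [2]),
  (10, 17, [2], [10, 64, 30]),
  (11, 17, [8], [37, 64, 60]),
  (12, 17, [], [20, 64, 41]),
  (13, 17, [14], [16, 64, 38]),
  (14, 17, [2], [1, 64, 20]),
  (15, 17, [32], [64, 18]),
  (16, 17, [], [13, 64, 51]),
  (17, 17, [5], [46, 64, 54]),
  (18, 17, [7], [39, 64, 35]),
  (19, 17, [4], [8, 64, 16]),
  (20, 17, [16], [36, 64, 35]),
  (21, 17, [7], [4, 64, 48]),
  (22, 17, [9], [24, 64, 24]),
  (23, 17, [], [40, 64, 34]),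
  (24, 17, [6], [49, 64, 18]),
  (25, 17, [46], [20]),
  (26, 17, [50], [64, 52]),
  (27, 17, [36], [64, 5]),
  (28, 17, [28], [56, 64, 25]),
  (29, 17, [13], [40, 64, 25]),
  (30, 17, [64, 34], [53]),
  (31, 17, [1], [61, 64, 57]),
  (32, 17, [1], [16, 64, 20]),
  (33, 17, [3], [22, 64, 52]),
  (34, 17, [9], [3, 64, 47]),
  (35, 17, [1], [21, 64, 19]),
  (36, 17, [6], [19, 64, 27]),
  (37, 17, [2], [44, 64, 22]),
  (38, 17, [64, 27], [48]),
  (39, 17, [46, 64, 55], []),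
  (40, 17, [64, 31], [34]),
  (41, 17, [], [61, 64, 44]),
  (42, 17, [3], [2, 64, 33]),
  (43, 17, [7], [15, 64, 22]),
  (44, 17, [31], [24, 64, 46]),
  (45, 17, [], [7, 64, 33]),
  (46, 17, [11], [29, 64, 54]),
  (47, 17, [2], [34, 64, 12]),
  (48, 17, [24], [26, 64, 34]),
  (49, 17, [16], [39, 64, 16]),
  (50, 17, [1], [56, 64, 10]),
  (51, 17, [24], [4, 64, 51]),
  (52, 17, [4], [34, 64, 2]),
  (53, 17, [2], [37, 64, 33]),
  (54, 17, [7, 64, 55], []),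
  (55, 17, [4], [32, 64, 43]),
  (56, 17, [2], [21, 64, 32]),
  (57, 17, [28], [30]),
  (58, 17, [], [62, 64, 5]),
  (59, 17, [7], [23, 64, 49]),
  (60, 17, [18], [60, 64, 36]),
  (61, 17, [51], [13, 64, 30]),
  (62, 17, [13], [50, 64, 16]),
  (63, 17, [22], [3, 64, 43]),
  (0, 25, [], [16, 64, 63]),
  (1, 25, [], [10]),
  (2, 25, [2], [64, 5]),
  (3, 25, [11], [33, 64, 2]),
  (4, 25, [], [28, 64, 41]),
  (5, 25, [3], [59, 64, 5]),
  (6, 25, [4], [58, 64, 30]),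
  (7, 25, [8], [26, 64, 49]),
  (8, 25, [12], [20]),
  (9, 25, [17], [39, 64, 54]),
  (10, 25, [15], [14, 64, 4]),
  (11, 25, [6], [64, 49]),
  (12, 25, [16], [45, 64, 57]),
  (13, 25, [6], [27, 64, 19]),
  (14, 25, [3], [8, 64, 6]),
  (15, 25, [17], [63, 64, 22]),
  (16, 25, [7], [27, 64, 42]),
  (17, 25, [22], [36]),
  (18, 25, [6], [44, 64, 24]),
  (19, 25, [14], [28, 64, 5]),
  (20, 25, [3], [62, 64, 39]),
  (21, 25, [1], [27, 64, 32]),
  (22, 25, [14, 64, 54], []),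
  (23, 25, [10], [29, 64, 5]),
  (24, 25, [], [5, 64, 51]),
  (25, 25, [7], [62, 64, 32]),
  (26, 25, [13], [11, 64, 54]),
  (27, 25, [6], [47, 64, 10]),
  (28, 25, [7], [5, 64, 37]),
  (29, 25, [35], [8, 64, 28]),
  (30, 25, [45], [64, 46]),
  (31, 25, [], [32, 64, 34]),
  (32, 25, [5], [64, 43]),
  (33, 25, [], [53, 64, 44]),
  (34, 25, [27], [64, 52]),
  (35, 25, [18], [42, 64, 46]),
  (36, 25, [25], [55, 64, 15]),
  (37, 25, [], [15, 64, 33]),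
  (38, 25, [14], [11, 64, 63]),
  (39, 25, [6], [18, 64, 15]),
  (40, 25, [19], [64, 53]),
  (41, 25, [3], [50, 64, 43]),
  (42, 25, [31], [64, 18]),
  (43, 25, [26], [49, 64, 59]),
  (44, 25, [11], [30, 64, 2]),
  (45, 25, [4], [16, 64, 50]),
  (46, 25, [18], [5, 64, 49]),
  (47, 25, [64, 42], [24]),
  (48, 25, [10], [45, 64, 49]),
  (49, 25, [52], [62]),
  (50, 25, [], [54, 64, 5]),
  (51, 25, [2], [60, 64, 52]),
  (52, 25, [2], [47, 64, 20]),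
  (53, 25, [64, 59], [33]),
  (54, 25, [16], [43, 64, 63]),
  (55, 25, [3], [62, 64, 22]),
  (56, 25, [11], [5, 64, 48]),
  (57, 25, [6], [6, 64, 35]),
  (58, 25, [12], [51, 64, 7]),
  (59, 25, [25], [27, 64, 38]),
  (60, 25, [10], [3, 64, 37]),
  (61, 25, [3], [61, 64, 43]),
  (62, 25, [15], [30, 64, 22]),
  (63, 25, [5], [10, 64, 45]),
  (0, 33, [6], [19, 64, 51]),
  (1, 33, [19], [35, 64, 59]),
  (2, 33, [6], [18, 64, 19]),
  (3, 33, [4], [8, 64, 56]),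
  (4, 33, [64, 54], [3]),
  (5, 33, [26], [13, 64, 33]),
  (6, 33, [13, 64, 24], []),
  (7, 33, [64, 34], [30]),
  (8, 33, [64, 55], [8]),
  (9, 33, [9], [58]),
  (10, 33, [], [14, 64, 5]),
  (11, 33, [4], [3, 64, 30]),
  (12, 33, [4], [10, 64, 19]),
  (13, 33, [17, 64, 18], []),
  (14, 33, [1], [20, 64, 12]),
  (15, 33, [1], [34, 64, 49]),
  (16, 33, [37], [28]),
  (17, 33, [15], [24, 64, 54]),
  (18, 33, [4], [53, 64, 39]),
  (19, 33, [7], [35, 64, 51]),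
  (20, 33, [10], [46, 64, 22]),
  (21, 33, [23], [2, 64, 59]),
  (22, 33, [43], [48]),
  (23, 33, [42, 64, 60], []),
  (24, 33, [1], [35, 64, 40]),
  (25, 33, [], [13, 64, 44]),
  (26, 33, [6], [6, 64, 48]),
  (27, 33, [6], [11, 64, 25]),
  (28, 33, [19], [2, 64, 46]),
  (29, 33, [], [55, 64, 33]),
  (30, 33, [11], [50, 64, 57]),
  (31, 33, [7], [29, 64, 35]),
  (32, 33, [], [61, 64, 51]),
  (33, 33, [64, 46], [55]),
  (34, 33, [61], [38]),
  (35, 33, [24], [64, 45]),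
  (36, 33, [3], [9, 64, 49]),
  (37, 33, [11], [45, 64, 36]),
  (38, 33, [64, 29], [42]),
  (39, 33, [], [24, 64, 34]),
  (40, 33, [10], [24, 64, 10]),
  (41, 33, [7], [6, 64, 18]),
  (42, 33, [64, 61], [53]),
  (43, 33, [23], [10, 64, 17]),
  (44, 33, [33], [29, 64, 54]),
  (45, 33, [23], [52, 64, 28]),
  (46, 33, [14, 64, 5], []),
  (47, 33, [6], [60, 64, 34]),
  (48, 33, [28], [25]),
  (49, 33, [10], [11, 64, 56]),
  (50, 33, [3], [13, 64, 10]),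
  (51, 33, [3], [20, 64, 37]),
  (52, 33, [31], [44]),
  (53, 33, [5], [52, 64, 45]),
  (54, 33, [11], [11, 64, 39]),
  (55, 33, [17], [5, 64, 51]),
  (56, 33, [], [19, 64, 14]),
  (57, 33, [], [50]),
  (58, 33, [18], [18, 64, 32]),
  (59, 33, [64, 2], [6]),
  (60, 33, [], [36, 64, 41]),
  (61, 33, [1], [10, 64, 32]),
  (62, 33, [16], [64, 13]),
  (63, 33, [6], [15, 64, 48]),
  (0, 41, [11], [64, 14]),
  (1, 41, [2], [64, 51]),
  (2, 41, [], [6, 64, 5]),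
  (3, 41, [1], [29, 64, 60]),
  (4, 41, [64, 59], [38]),
  (5, 41, [16], [17, 64, 2]),
  (6, 41, [16], [31, 64, 46]),
  (7, 41, [1], [4, 64, 21]),
  (8, 41, [64, 1], [29]),
  (9, 41, [10], [13, 64, 62]),
  (10, 41, [3], [1, 64, 37]),
  (11, 41, [64, 17], [61]),
  (12, 41, [34, 64, 21], []),
  (13, 41, [64, 57], [3]),
  (14, 41, [53], [64, 33]),
  (15, 41, [6], [5, 64, 38]),
  (16, 41, [46], [39]),
  (17, 41, [], [5, 64, 44]),
  (18, 41, [5], [7, 64, 23]),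
  (19, 41, [1], [6, 64, 46]),
  (20, 41, [6], [53, 64, 30]),
  (21, 41, [], [63, 64, 33]),
  (22, 41, [14], [53, 64, 55]),
  (23, 41, [7], [11, 64, 53]),
  (24, 41, [5], [32, 64, 34]),
  (25, 41, [2], [40, 64, 49]),
  (26, 41, [11], [29, 64, 57]),
  (27, 41, [4], [54, 64, 15]),
  (28, 41, [30], [53]),
  (29, 41, [13], [28, 64, 10]),
  (30, 41, [58], [64, 52]),
  (31, 41, [14, 64, 25], []),
  (32, 41, [47], [64, 60]),
  (33, 41, [1], [19, 64, 50]),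
  (34, 41, [2], [52, 64, 38]),
  (35, 41, [10], [61, 64, 15]),
  (36, 41, [12], [48, 64, 41]),
  (37, 41, [4], [10, 64, 1]),
  (38, 41, [32, 64, 23], []),
  (39, 41, [1], [52, 64, 57]),
  (40, 41, [], [53, 64, 51]),
  (41, 41, [64, 12], [13]),
  (42, 41, [54], [64, 1]),
  (43, 41, [8], [45, 64, 19]),
  (44, 41, [7], [35, 64, 41]),
  (45, 41, [9], [9, 64, 29]),
  (46, 41, [42], [41]),
  (47, 41, [], [16, 64, 34]),
  (48, 41, [], [27, 64, 14]),
  (49, 41, [], [58]),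
  (50, 41, [1], [36, 64, 25]),
  (51, 41, [9], [43, 64, 5]),
  (52, 41, [], [44, 64, 41]),
  (53, 41, [26], [30, 64, 5]),
  (54, 41, [10], [27, 64, 42]),
  (55, 41, [14], [25, 64, 4]),
  (56, 41, [7], [15, 64, 20]),
  (57, 41, [12], [27, 64, 16]),
  (58, 41, [8], [64, 10]),
  (59, 41, [3], [1, 64, 52]),
  (60, 41, [2], [39, 64, 42]),
  (61, 41, [23], [47, 64, 37]),
  (62, 41, [20], [26, 64, 57]),
  (63, 41, [15], [62, 64, 30]),
  (0, 49, [2], [15, 64, 51]),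
  (1, 49, [2], [22, 64, 14]),
  (2, 49, [10], [22, 64, 30]),
  (3, 49, [20], [11, 64, 15]),
  (4, 49, [55], [64, 20]),
  (5, 49, [46], [64, 13]),
  (6, 49, [51], [64, 6]),
  (7, 49, [36, 64, 5], []),
  (8, 49, [64, 47], [4]),
  (9, 49, [], [29, 64, 44]),
  (10, 49, [31], [4, 64, 43]),
  (11, 49, [1], [27, 64, 46]),
  (12, 49, [2], [14, 64, 8]),
  (13, 49, [], [39, 64, 33]),
  (14, 49, [44], [64, 59]),
  (15, 49, [4], [22, 64, 35]),
  (16, 49, [1], [15, 64, 23]),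
  (17, 49, [3], [28, 64, 36]),
  (18, 49, [64, 10], [41]),
  (19, 49, [5], [60, 64, 43]),
  (20, 49, [19], [64, 17]),
  (21, 49, [7], [20, 64, 37]),
  (22, 49, [6], [4, 64, 16]),
  (23, 49, [23], [64, 21]),
  (24, 49, [20], [3, 64, 1]),
  (25, 49, [1], [47, 64, 17]),
  (26, 49, [], [30, 64, 5]),
  (27, 49, [19], [9, 64, 38]),
  (28, 49, [26], [38, 64, 36]),
  (29, 49, [], [64, 20, 64, 15]),
  (30, 49, [16], [41, 64, 17]),
  (31, 49, [64, 54], [58]),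
  (32, 49, [64, 20], [51]),
  (33, 49, [4], [55, 64, 6]),
  (34, 49, [6], [32, 64, 40]),
  (35, 49, [16], [9, 64, 10]),
  (36, 49, [2], [13, 64, 47]),
  (37, 49, [64, 29], [19]),
  (38, 49, [18], [10, 64, 55]),
  (39, 49, [1], [45, 64, 43]),
  (40, 49, [], [3, 64, 14]),
  (41, 49, [], [34]),
  (42, 49, [16], [39, 64, 37]),
  (43, 49, [12], [12, 64, 2]),
  (44, 49, [], [52, 64, 41]),
  (45, 49, [8], [55, 64, 35]),
  (46, 49, [2], [3, 64, 46]),
  (47, 49, [1], [32, 64, 30]),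
  (48, 49, [], [45, 64, 51]),
  (49, 49, [13], [24, 64, 12]),
  (50, 49, [6], [9, 64, 29]),
  (51, 49, [5], [26, 64, 8]),
  (52, 49, [11], [64, 40]),
  (53, 49, [21], [30, 64, 4]),
  (54, 49, [4], [39, 64, 55]),
  (55, 49, [], [8, 64, 34]),
  (56, 49, [6], [19, 64, 54]),
  (57, 49, [4], [49, 64, 34]),
  (58, 49, [19], [52, 64, 13]),
  (59, 49, [23], [64, 4]),
  (60, 49, [5], [39, 64, 34]),
  (61, 49, [35], [11, 64, 52]),
  (62, 49, [], [64, 50, 64, 51]),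
  (63, 49, [11], [25, 64, 30]),
  (0, 57, [6], [22, 64, 63]),
  (1, 57, [], [21, 64, 44]),
  (2, 57, [8], [46, 64, 54]),
  (3, 57, [2], [33, 64, 34]),
  (4, 57, [18], [18, 64, 43]),
  (5, 57, [], [47, 64, 33]),
  (6, 57, [64, 47], [39]),
  (7, 57, [15], [45, 64, 42]),
  (8, 57, [64, 28], [32]),
  (9, 57, [18], [30, 64, 39]),
  (10, 57, [2], [60, 64, 61]),
  (11, 57, [30], [53, 64, 42]),
  (12, 57, [6], [14, 64, 23]),
  (13, 57, [13], [8, 64, 7]),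
  (14, 57, [4], [10, 64, 48]),
  (15, 57, [26, 64, 30], []),
  (16, 57, [9], [22, 64, 57]),
  (17, 57, [34], [64, 27]),
  (18, 57, [], [22, 64, 5]),
  (19, 57, [7], [38, 64, 63]),
  (20, 57, [10], [34, 64, 32]),
  (21, 57, [31], [64, 11]),
  (22, 57, [3], [10, 64, 46]),
  (23, 57, [1], [55, 64, 30]),
  (24, 57, [11], [2, 64, 34]),
  (25, 57, [23], [64, 5]),
  (26, 57, [15], [30, 64, 38]),
  (27, 57, [64, 30], [10]),
  (28, 57, [4, 64, 29], []),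
  (29, 57, [2], [46, 64, 52]),
  (30, 57, [16, 64, 19], []),
  (31, 57, [2], [39, 64, 30]),
  (32, 57, [], [11, 64, 14]),
  (33, 57, [], [42]),
  (34, 57, [2], [26, 64, 42]),
  (35, 57, [26], [14, 64, 56]),
  (36, 57, [], [60, 64, 41]),
  (37, 57, [9], [7, 64, 41]),
  (38, 57, [4], [1, 64, 23]),
  (39, 57, [4], [23, 64, 47]),
  (40, 57, [64, 53], [1]),
  (41, 57, [1], [4, 64, 52]),
  (42, 57, [10], [21, 64, 39]),
  (43, 57, [3], [37, 64, 49]),
  (44, 57, [14], [58, 64, 46]),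
  (45, 57, [29], [64, 20]),
  (46, 57, [9], [64, 45]),
  (47, 57, [5], [3, 64, 35]),
  (48, 57, [9], [33, 64, 22]),
  (49, 57, [1], [26, 64, 48]),
  (50, 57, [5], [20, 64, 25]),
  (51, 57, [6], [11, 64, 55]),
  (52, 57, [37], [4, 64, 7]),
  (53, 57, [27], [61, 64, 12]),
  (54, 57, [10], [5, 64, 38]),
  (55, 57, [17], [8, 64, 63]),
  (56, 57, [], [37, 64, 51]),
  (57, 57, [26], [24, 64, 62]),
  (58, 57, [5], [26, 64, 26]),
  (59, 57, [9], [30, 64, 23]),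
  (60, 57, [47], [64, 59]),
  (61, 57, [1], [6, 64, 22]),
  (62, 57, [64, 38], [26]),
  (63, 57, [], [64, 34]),
  (0, 0, [], [4, 64, 44]),
  (1, 0, [3], [27, 64, 36]),
  (2, 0, [17], [27, 64, 19]),
  (3, 0, [9], [56, 64, 25]),
  (4, 0, [1], [6, 64, 41]),
  (5, 0, [5], [34, 64, 25]),
  (6, 0, [34], [64, 49]),
  (7, 0, [2], [19, 64, 61]),
  (8, 0, [20], [8, 64, 61]),
  (9, 0, [14], [3, 64, 31]),
  (10, 0, [50], [60]),
  (11, 0, [], [31, 64, 5]),
  (12, 0, [26], [33, 64, 9]),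
  (13, 0, [], [37, 64, 41]),
  (14, 0, [], [57, 64, 34]),
  (15, 0, [16], [7, 64, 60]),
  (16, 0, [9], [38, 64, 17]),
  (17, 0, [51], [64, 28]),
  (18, 0, [23], [9]),
  (19, 0, [5], [64, 15]),
  (20, 0, [11], [51, 64, 12]),
  (21, 0, [18], [32]),
  (22, 0, [2], [40, 64, 40]),
  (23, 0, [1], [46, 64, 24]),
  (24, 0, [1], [63, 64, 54]),
  (25, 0, [63], [64, 1]),
  (26, 0, [11], [48, 64, 15]),
  (27, 0, [13], [3, 64, 47]),
  (28, 0, [23], [6, 64, 4]),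
  (29, 0, [3], [44, 64, 42]),
  (30, 0, [57], [39]),
  (31, 0, [2], [41, 64, 45]),
  (32, 0, [], [3]),
  (33, 0, [15], [59, 64, 38]),
  (34, 0, [9], [7, 64, 19]),
  (35, 0, [10], [9, 64, 43]),
  (36, 0, [], [46, 64, 33]),
  (37, 0, [3], [41]),
  (38, 0, [44], [34]),
  (39, 0, [56], [10]),
  (40, 0, [39], [49, 64, 38]),
  (41, 0, [], [9, 64, 63]),
  (42, 0, [1], [23, 64, 23]),
  (43, 0, [8], [25, 64, 47]),
  (44, 0, [4], [39, 64, 25]),
  (45, 0, [15], [13, 64, 55]),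
  (46, 0, [6], [10, 64, 19]),
  (47, 0, [20], [11, 64, 34]),
  (48, 0, [21], [47, 64, 22]),
  (49, 0, [], [52, 64, 51]),
  (50, 0, [7], [16, 64, 31]),
  (51, 0, [5], [9, 64, 13]),
  (52, 0, [33], [64, 22]),
  (53, 0, [39, 64, 30], []),
  (54, 0, [2], [43, 64, 7]),
  (55, 0, [17], [59]),
  (56, 0, [10], [51, 64, 7]),
  (57, 0, [1], [16, 64, 22]),
  (58, 0, [4], [51, 64, 2]),
  (59, 0, [22], [57, 64, 35]),
  (60, 0, [1], [3, 64, 29]),
  (61, 0, [29], [48, 64, 22]),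
  (62, 0, [23, 64, 34], []),
  (63, 0, [3], [14, 64, 40]),
  (0, 8, [64, 16], [57, 64, 16]),
  (1, 8, [15], [5, 64, 7]),
  (2, 8, [45], [64, 13]),
  (3, 8, [], [23, 64, 5]),
  (4, 8, [18], [35, 64, 17]),
  (5, 8, [], [45, 64, 41]),
  (6, 8, [], [49, 64, 34]),
  (7, 8, [23, 64, 46], []),
  (8, 8, [], [12, 64, 44]),
  (9, 8, [2], [56, 64, 36]),
  (10, 8, [36], [48, 64, 49]),
  (11, 8, [64, 58], [19]),
  (12, 8, [2], [38, 64, 36]),
  (13, 8, [26], [59, 64, 32]),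
  (14, 8, [17], [38, 64, 41]),
  (15, 8, [2], [51, 64, 55]),
  (16, 8, [4], [63, 64, 5]),
  (17, 8, [64, 26], [6]),
  (18, 8, [17], [40, 64, 17]),
  (19, 8, [64, 22], [60]),
  (20, 8, [4], [30, 64, 4]),
  (21, 8, [11], [62, 64, 41]),
  (22, 8, [5], [21, 64, 21]),
  (23, 8, [5], [4, 64, 21]),
  (24, 8, [8], [9, 64, 54]),
  (25, 8, [4], [10, 64, 60]),
  (26, 8, [32], [53, 64, 37]),
  (27, 8, [7], [32, 64, 19]),
  (28, 8, [4], [2, 64, 30]),
  (29, 8, [20], [9, 64, 41]),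
  (30, 8, [3], [40, 64, 54]),
  (31, 8, [11], [16, 64, 23]),
  (32, 8, [29], [28]),
  (33, 8, [], [1, 64, 63]),
  (34, 8, [4], [39, 64, 20]),
  (35, 8, [14], [43, 64, 38]),
  (36, 8, [11], [17, 64, 36]),
  (37, 8, [37], [46, 64, 28]),
  (38, 8, [10], [4, 64, 29]),
  (39, 8, [6], [47, 64, 57]),
  (40, 8, [], [11]),
  (41, 8, [64, 20], [26]),
  (42, 8, [13], [3, 64, 52]),
  (43, 8, [1], [24, 64, 52]),
  (44, 8, [], [38, 64, 33]),
  (45, 8, [4], [21, 64, 6]),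
  (46, 8, [24], [64, 30]),
  (47, 8, [], [64, 32, 64, 37]),
  (48, 8, [7], [30, 64, 52]),
  (49, 8, [64, 21], [39]),
  (50, 8, [19], [23, 64, 12]),
  (51, 8, [4], [49, 64, 29]),
  (52, 8, [25], [13, 64, 1]),
  (53, 8, [10], [49, 64, 2]),
  (54, 8, [33, 64, 61], []),
  (55, 8, [11], [2, 64, 56]),
  (56, 8, [3], [13, 64, 41]),
  (57, 8, [], [60, 64, 51]),
  (58, 8, [5], [48, 64, 13]),
  (59, 8, [64, 43], [7]),
  (60, 8, [6, 64, 13], []),
  (61, 8, [20, 64, 38], []),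
  (62, 8, [46], [64, 35]),
  (63, 8, [2], [26, 64, 22])]

theorem inv_chk : ((List.range 65).all fun c => evM [c, invC c] == evM []) = true := by
  decide +kernel

theorem five_chk : (evM (List.replicate 5 sW).flatten == evM []) = true := by
  decide +kernel

theorem cert_chk : (cert.all fun x =>
    evM [64, x.1, 64, x.2.1] ==
      evM (x.2.2.1 ++ sW ++ invW x.2.2.1 ++ (x.2.2.2 ++ sW ++ invW x.2.2.2))) = true := by
  decide +kernel

theorem lt_chk : (cert.all fun x => (x.2.2.1 ++ x.2.2.2).all fun c => decide (c < 65)) = true := by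
  decide +kernel

theorem cover_chk : (([1, 9, 17, 25, 33, 41, 49, 57, 0, 8] : List ℕ).all fun q =>
    (List.range 64).all fun p => cert.any fun x => x.1 == p && x.2.1 == q) = true := by
  decide +kernel

end CfsgLib.ClassSquare.LargeRee.SzEight
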