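import Cfsg.Agent.Lib.ClassSquare.LargeRee.Big
import Cfsg.Agent.Lib.ClassSquare.LargeRee.SzEight

/-!
For eight elements: the square of the class of a product of a torus element and an element of order
five of the rank one subgroup centralised by it.
-/

set_option autoImplicit false
set_option maxRecDepth 100000
set_option linter.unusedSectionVars false

namespace CfsgLib.ClassSquare.LargeRee

open Cfsg.Lie Matrix CfsgLib.Chev CfsgLib.Chev.F4Root
open CfsgLib.Chev.Cert (torusHom extC mem_cellList)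

theorem clsB_checks :
    ((List.range 4).all fun i => decide (tabF4.car i 30 = tabF4.car i 27 + tabF4.car i 28)) = true ∧
    ((List.range 12).all fun k =>
      k == 1 || k == 3 || decide ((-2 * eA 2 k + eB 2 k) % 7 ≠ 0)) = true ∧
    ((Endo.orbL dataTwF4.L 1).root = 25 ∧ (Endo.orbL dataTwF4.L 3).root = 28) := by
  decide +kernel

/-- The element of a code. -/
def iota {K : Type*} [Field K] (α : K) (n : ℕ) : K :=
  (if n % 8 % 2 = 1 then 1 else 0) + (if n % 8 / 2 % 2 = 1 then α else 0) +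
    (if n % 8 / 4 = 1 then α ^ 2 else 0)

section Model

variable {K : Type*} [Field K] [CharP K 2] {α : K} (hα : α ^ 3 = 1 + α)

theorem iota_mod (n : ℕ) : iota α (n % 8) = iota α n := by simp [iota, Nat.mod_mod]

theorem iota_xor_small : ∀ a < 8, ∀ b < 8, iota α (a ^^^ b) = iota α a + iota α b := by
  have h2 : (2 : K) = 0 := CharTwo.two_eq_zero
  intro a ha b hb
  interval_cases a <;> interval_cases b <;> simp [iota] <;> grobner

theorem iota_xor (a b : ℕ) : iota α (a ^^^ b) = iota α a + iota α b := by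
  rw [← iota_mod, show (a ^^^ b) % 8 = (a % 8) ^^^ (b % 8) from Nat.xor_mod_two_pow (n := 3),
    iota_xor_small _ (Nat.mod_lt _ (by norm_num)) _ (Nat.mod_lt _ (by norm_num)), iota_mod, iota_mod]

include hα

theorem iota_ml_small : ∀ a < 8, ∀ b < 8, iota α (SzEight.ml a b) = iota α a * iota α b := by
  have h2 : (2 : K) = 0 := CharTwo.two_eq_zero
  intro a ha b hb
  interval_cases a <;> interval_cases b <;> simp [iota, SzEight.ml, SzEight.mlTab] <;> grobner

theorem iota_ml (a b : ℕ) : iota α (SzEight.ml a b) = iota α a * iota α b := by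
  rw [← iota_mod (α := α) a, ← iota_mod (α := α) b,
    ← iota_ml_small hα _ (Nat.mod_lt _ (by norm_num)) _ (Nat.mod_lt _ (by norm_num))]
  simp [SzEight.ml, Nat.mod_mod]

theorem iota_inj {a b : ℕ} (ha : a < 8) (hb : b < 8) (h : iota α a = iota α b) : a = b := by
  by_contra hne
  have hz : iota α (a ^^^ b) = 0 := by rw [iota_xor, h, CharTwo.add_self_eq_zero]
  have hinv : ∀ n : Fin 8, n ≠ 0 → ∃ m : Fin 8, SzEight.ml n m = 1 := by decide +kernel
  obtain ⟨m, hm⟩ := hinv ⟨a ^^^ b, Nat.xor_lt_two_pow (n := 3) ha hb⟩ fun e =>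
    hne (Nat.xor_eq_zero_iff.1 (congrArg Fin.val e))
  have h1 := iota_ml hα (a ^^^ b) m
  rw [hm, hz, zero_mul] at h1
  simp [iota] at h1

theorem iota_surj [Fintype K] (hK : Fintype.card K = 8) (x : K) : ∃ a < 8, iota α a = x := by
  obtain ⟨a, ha⟩ := ((Fintype.bijective_iff_injective_and_card fun a : Fin 8 => iota α a).2
    ⟨fun a b h => Fin.ext (iota_inj hα a.2 b.2 h), by rw [Fintype.card_fin, hK]⟩).2 x
  exact ⟨a, a.2, ha⟩

/-- The matrix of a code. -/
def matOf (α : K) (L : List ℕ) : Matrix (Fin 4) (Fin 4) K :=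
  Matrix.of fun i j => iota α (L.getD (4 * i + j) 0)

theorem matOf_mm (x y : List ℕ) : matOf α (SzEight.mm x y) = matOf α x * matOf α y := by
  ext i j
  fin_cases i <;> fin_cases j <;>
    simp [matOf, SzEight.mm, SzEight.mmE, iota_xor, iota_ml hα, Matrix.mul_apply, Fin.sum_univ_four]

theorem matOf_pt (c : ℕ) :
    matOf α (SzEight.ptM c) = matB (iota α c ^ 2) (iota α c) (iota α (c / 8)) (iota α (c / 8) ^ 4) := by
  have h0 : iota α 0 = 0 := by simp [iota]
  have h1 : iota α 1 = 1 := by simp [iota]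
  have hsq : ∀ a, iota α (SzEight.ml a a) = iota α a ^ 2 := fun a => by rw [iota_ml hα, sq]
  have h4 : ∀ a, iota α (SzEight.ml (SzEight.ml a a) (SzEight.ml a a)) = iota α a ^ 4 := fun a => by
    rw [hsq, hsq, ← pow_mul]
  ext i j
  fin_cases i <;> fin_cases j <;>
    simp [matOf, SzEight.ptM, matB, h0, h1, iota_xor, iota_ml hα, sq, iota_mod] <;> ring

theorem matOf_one : matOf α (SzEight.evM []) = (1 : Matrix (Fin 4) (Fin 4) K) := by
  ext i j
  fin_cases i <;> fin_cases j <;> simp [matOf, SzEight.evM, iota]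

theorem matOf_J : matOf α (SzEight.genM 64) =
    (!![0, 0, 0, 1; 0, 0, 1, 0; 0, 1, 0, 0; 1, 0, 0, 0] : Matrix (Fin 4) (Fin 4) K) := by
  ext i j
  fin_cases i <;> fin_cases j <;> simp [matOf, SzEight.genM, iota]

end Model

variable {K : Type*} [Field K] [Fintype K] [CharP K 2] {e : ℕ}
variable (f : K →+* K) (hf : ∀ t, f t = t ^ e) (hK : Fintype.card K = 2 * e ^ 2)
include hf hK

theorem tel_conj_elB {a b : Kˣ} (t u : K) :
    tel f hf hK a b * elB f hf hK t u * (tel f hf hK a b)⁻¹ =
      elB f hf hK ((F4Root.chi e 1 a b : K) * t) ((F4Root.chi e 1 a b : K) ^ (e + 1) * u) := by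
  obtain ⟨-, h25, h27, h28⟩ := CfsgLib.TwistAut.F4.chars hK a b
  obtain ⟨hcar, -⟩ := clsB_checks
  simp only [List.all_eq_true, List.mem_range, decide_eq_true_eq] at hcar
  have hpar : CfsgLib.TwistAut.F4.par e a b = par e a b := rfl
  rw [hpar] at h25 h27 h28
  set C : K := (CfsgLib.TwistAut.F4.chB e a b : K) with hC
  have hchi : (F4Root.chi e 1 a b : K) = C := by
    rw [← h25]; exact (charOf_par a b (k := 1) (by decide)).symm
  have h30 : charOf tabF4 (extC tabF4 (par e a b)) 30 = C ^ e * C ^ (e + 1) := by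
    rw [← h27, ← h28]
    simp only [charOf, ← Finset.prod_mul_distrib]
    refine Finset.prod_congr rfl fun i hi => ?_
    have hi' : i < 4 := Finset.mem_range.1 hi
    rw [hcar i hi', zpow_add₀]
    exact Cert.extC_ne_zero _ _
  refine Subtype.ext ?_
  show torusHom (D := chevF4) (T := tabF4) (par e a b) * (X chevF4 27 (t ^ e) * X chevF4 25 t *
      X chevF4 28 (t ^ (e + 1) + u) * X chevF4 30 (u ^ (2 * e))) *
      (torusHom (D := chevF4) (T := tabF4) (par e a b))⁻¹ = _
  rw [← conj_mul, ← conj_mul, ← conj_mul, GTorus.torusHom_conj_X certF4 _ (by decide +kernel),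
    GTorus.torusHom_conj_X certF4 _ (by decide +kernel), GTorus.torusHom_conj_X certF4 _ (by decide +kernel),
    GTorus.torusHom_conj_X certF4 _ (by decide +kernel), h25, h27, h28, h30, hchi]
  show _ = X chevF4 27 ((C * t) ^ e) * X chevF4 25 (C * t) *
    X chevF4 28 ((C * t) ^ (e + 1) + C ^ (e + 1) * u) * X chevF4 30 ((C ^ (e + 1) * u) ^ (2 * e))
  have hC30 : C ^ e * C ^ (e + 1) = (C ^ (e + 1)) ^ (2 * e) := by
    rw [← pow_mul, show (e + 1) * (2 * e) = Fintype.card K + 2 * e by rw [hK]; ring,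
      pow_add C (Fintype.card K), FiniteField.pow_card]
    ring
  rw [hC30, mul_pow C t, mul_pow C t, mul_add, mul_pow (C ^ (e + 1)) u]

/-- A torus element centralises the class B if its character there is trivial. -/
theorem commute_clsB {a b : Kˣ} (h : F4Root.chi e 1 a b = 1) {g : ↥(endoF4 f).fix}
    (hg : g ∈ (endoF4 f).clsL clB) : Commute (tel f hf hK a b) g := by
  have hX : ∀ x ∈ (endoF4 f).clsX clB, Commute (tel f hf hK a b) x := fun x hx => by
    obtain ⟨t, u, rfl⟩ := exists_elB f hf hK hx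
    have h1 := tel_conj_elB f hf hK (a := a) (b := b) t u
    rw [h, Units.val_one, one_pow, one_mul, one_mul] at h1
    exact mul_inv_eq_iff_eq_mul.1 h1
  have hle : (endoF4 f).clsL clB ≤ Subgroup.centralizer {tel f hf hK a b} := by
    refine sup_le (fun x hx => Subgroup.mem_centralizer_singleton_iff.2 (hX x hx).eq.symm)
      (fun y hy => Subgroup.mem_centralizer_singleton_iff.2 ?_)
    set O := opp f hf hK
    have h2 := (hX _ (conj_clsY_clsX O hy).2).inv_left
    rw [← O.inverts (tel_mem f hf hK a b)] at h2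
    have h3 := h2.eq
    calc y * tel f hf hK a b = O.n * (O.n⁻¹ * y * O.n * (O.n⁻¹ * tel f hf hK a b * O.n)) * O.n⁻¹ := by group
      _ = O.n * (O.n⁻¹ * tel f hf hK a b * O.n * (O.n⁻¹ * y * O.n)) * O.n⁻¹ := by rw [h3]
      _ = _ := by group
  exact (Subgroup.mem_centralizer_singleton_iff.1 (hle hg)).symm

/-- The element of a generator code. -/
noncomputable def genG (α : K) (c : ℕ) : ↥((endoF4 f).clsL clB) :=
  if c = 64 then ⟨_, repB_mem f hf hK⟩
  else ⟨_, Subgroup.mem_sup_left (elB_mem f hf hK (iota α c) (iota α (c / 8)))⟩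

/-- The element of a word. -/
noncomputable def evG (α : K) : List ℕ → ↥((endoF4 f).clsL clB)
  | [] => 1
  | c :: w => genG f hf hK α c * evG α w

theorem evG_append (α : K) : ∀ v w : List ℕ, evG f hf hK α (v ++ w) = evG f hf hK α v * evG f hf hK α w
  | [], w => by simp [evG]
  | c :: v, w => by simp [evG, evG_append α v w, mul_assoc]

variable {α : K} (hα : α ^ 3 = 1 + α) (he : e = 2)
include hα he

theorem psi_genG (c : ℕ) :
    (psiB f (genG f hf hK α c) : Matrix (Fin 4) (Fin 4) K) = matOf α (SzEight.genM c) := by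
  by_cases hc : c = 64
  · rw [genG, if_pos hc, hc, matOf_J hα]
    exact psiB_rep f hf hK
  · rw [genG, if_neg hc, psiB_el f hf hK rfl, show SzEight.genM c = SzEight.ptM c from if_neg hc,
      matOf_pt hα, he]

theorem psi_evG : ∀ w : List ℕ,
    (psiB f (evG f hf hK α w) : Matrix (Fin 4) (Fin 4) K) = matOf α (SzEight.evM w)
  | [] => by rw [evG, map_one, Units.val_one, matOf_one hα]
  | c :: w => by
    rw [evG, map_mul, Units.val_mul, psi_genG f hf hK hα he c, psi_evG w, ← matOf_mm hα]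
    rfl

theorem evG_eq {v w : List ℕ} (h : (SzEight.evM v == SzEight.evM w) = true) :
    evG f hf hK α v = evG f hf hK α w := by
  refine psiB_injective f hf hK 1 (by rw [he]; rfl) (Units.ext ?_)
  rw [psi_evG f hf hK hα he, psi_evG f hf hK hα he, eq_of_beq h]

theorem evG_inv {c : List ℕ} (hc : ∀ x ∈ c, x < 65) :
    evG f hf hK α (SzEight.invW c) = (evG f hf hK α c)⁻¹ := by
  induction c with
  | nil => simp [SzEight.invW, evG]
  | cons x c ih =>
    have h := SzEight.inv_chk
    simp only [List.all_eq_true, List.mem_range] at h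
    have h1 := evG_eq f hf hK hα he (h x (hc x List.mem_cons_self))
    rw [show SzEight.invW (x :: c) = SzEight.invW c ++ [SzEight.invC x] by simp [SzEight.invW],
      evG_append, ih fun y hy => hc y (List.mem_cons_of_mem _ hy)]
    simp only [evG, mul_one] at h1 ⊢
    rw [_root_.mul_inv_rev, eq_inv_of_mul_eq_one_right h1]

/-- The elements covered are products of two conjugates of the element of order five. -/
theorem levi_square {y x : ↥(endoF4 f).fix} (hy : y ∈ (endoF4 f).clsY clB)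
    (hx : x ∈ (endoF4 f).clsX clB) :
    ∃ c ∈ (endoF4 f).clsL clB, ∃ d ∈ (endoF4 f).clsL clB,
      y * x = (c * (evG f hf hK α SzEight.sW).1 * c⁻¹) * (d * (evG f hf hK α SzEight.sW).1 * d⁻¹) := by
  have hK8 : Fintype.card K = 8 := by rw [hK, he]; norm_num
  have h8 : ∀ c : K, c ≠ 0 → c ^ 7 = 1 := fun c hc => by
    have := FiniteField.pow_card_sub_one_eq_one c hc
    rwa [hK8] at this
  set S := evG f hf hK α SzEight.sW
  have base : ∀ q ∈ ([1, 9, 17, 25, 33, 41, 49, 57, 0, 8] : List ℕ),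
      ∀ y ∈ (endoF4 f).clsY clB, ∃ c ∈ (endoF4 f).clsL clB, ∃ d ∈ (endoF4 f).clsL clB,
        y * (genG f hf hK α q).1 = (c * S.1 * c⁻¹) * (d * S.1 * d⁻¹) := by
    intro q hq y hy
    rw [← (endoF4 f).map_clsX (dataOK_F4 f).cls clB_mem (repB_isRep f hf hK)] at hy
    obtain ⟨z, hz, ez⟩ := hy
    obtain ⟨t, u, rfl⟩ := exists_elB f hf hK hz
    obtain ⟨a, ha, rfl⟩ := iota_surj hα hK8 t
    obtain ⟨b, hb, rfl⟩ := iota_surj hα hK8 u
    set p := a + 8 * b
    have hcov := SzEight.cover_chk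
    simp only [List.all_eq_true, List.mem_range, List.any_eq_true, Bool.and_eq_true, beq_iff_eq] at hcov
    obtain ⟨⟨p', q', C, D⟩, hmem, hp, hq'⟩ := hcov q hq p (by omega)
    simp only at hp hq'
    subst hp hq'
    have hlt := SzEight.lt_chk
    simp only [List.all_eq_true, decide_eq_true_eq] at hlt
    have hl : ∀ c ∈ C ++ D, c < 65 := hlt _ hmem
    have hcert := SzEight.cert_chk
    simp only [List.all_eq_true] at hcert
    have e1 := evG_eq f hf hK hα he (hcert _ hmem)
    simp only [evG_append, evG, mul_one,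
      evG_inv f hf hK hα he fun c hc => hl c (List.mem_append_left _ hc),
      evG_inv f hf hK hα he fun c hc => hl c (List.mem_append_right _ hc)] at e1
    refine ⟨_, (evG f hf hK α C).2, _, (evG f hf hK α D).2, ?_⟩
    have hpp : genG f hf hK α p = ⟨_, Subgroup.mem_sup_left (elB_mem f hf hK (iota α a) (iota α b))⟩ := by
      rw [genG, if_neg (by omega)]
      refine Subtype.ext ?_
      show elB f hf hK (iota α p) (iota α (p / 8)) = _
      rw [show iota α p = iota α a by rw [← iota_mod, show p % 8 = a by omega], show p / 8 = b by omega]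
    have h64 : genG f hf hK α 64 = ⟨_, repB_mem f hf hK⟩ := if_pos rfl
    have hinv64 : (genG f hf hK α 64)⁻¹ = genG f hf hK α 64 := by
      have h := SzEight.inv_chk
      simp only [List.all_eq_true, List.mem_range] at h
      have h1 := evG_eq f hf hK hα he (h 64 (by norm_num))
      simp only [evG, mul_one, show SzEight.invC 64 = 64 by decide +kernel] at h1
      exact inv_eq_of_mul_eq_one_right h1
    have hy' : y = (genG f hf hK α 64 * genG f hf hK α p * genG f hf hK α 64).1 := by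
      rw [← ez]
      nth_rewrite 2 [← hinv64]
      rw [h64, hpp]
      simp
    have e2 := congrArg Subtype.val e1
    simp only [Subgroup.coe_mul, Subgroup.coe_inv] at e2 hy'
    rw [hy']
    simpa only [mul_assoc] using e2
  obtain ⟨t, u, rfl⟩ := exists_elB f hf hK hx
  have scaled : ∀ c : Kˣ, ∀ q ∈ ([1, 9, 17, 25, 33, 41, 49, 57, 0, 8] : List ℕ),
      elB f hf hK ((c : K) * t) ((c : K) ^ (e + 1) * u) = (genG f hf hK α q).1 →
      ∃ a ∈ (endoF4 f).clsL clB, ∃ d ∈ (endoF4 f).clsL clB,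
        y * elB f hf hK t u = (a * S.1 * a⁻¹) * (d * S.1 * d⁻¹) := by
    intro c q hq hce
    obtain ⟨a, ha⟩ : ∃ b : Kˣ, F4Root.chi e 1 1 b = c := by
      have hinj : Function.Injective fun b : Kˣ => F4Root.chi e 1 1 b := fun b b' h => by
        have h1 : F4Root.chi e 1 1 (b / b') = 1 := by
          have h2 := chi_mul (e := e) 1 1 (b / b') 1 b'
          rw [one_mul, div_mul_cancel] at h2
          simp only at h
          rwa [h, right_eq_mul] at h2
        have h7 : (b / b') ^ 7 = 1 := Units.ext (by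
          rw [Units.val_pow_eq_pow_val]; exact h8 _ (Units.ne_zero _))
        rw [chi_one, he, inv_one, one_mul, show (2 - 2 * ((2 : ℕ) : ℤ)) = -((2 : ℕ) : ℤ) by norm_num,
          _root_.zpow_neg, inv_eq_one, _root_.zpow_natCast] at h1
        refine div_eq_one.1 ?_
        calc b / b' = (b / b') * ((b / b') ^ 7) := by rw [h7, mul_one]
          _ = ((b / b') ^ 2) ^ 4 := by rw [← pow_succ', ← pow_mul]
          _ = 1 := by rw [h1, one_pow]
      exact Finite.injective_iff_surjective.1 hinj c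
    set τ := tel f hf hK 1 a
    have hτL : τ ∈ (endoF4 f).clsL clB := tel_mem_B f hf hK a
    have hy2 : τ * y * τ⁻¹ ∈ (endoF4 f).clsY clB :=
      (endoF4 f).conj_diaG_gen (dataOK_F4 f).cls clB_mem (S := Endo.clsNeg tabF4 clB)
        (fun r hr => hr.1) (tel_mem f hf hK 1 a) hy
    obtain ⟨p, hp, d, hd, e1⟩ := base q hq _ hy2
    rw [← hce, ← ha, ← tel_conj_elB f hf hK] at e1
    refine ⟨τ⁻¹ * p, mul_mem (inv_mem hτL) hp, τ⁻¹ * d, mul_mem (inv_mem hτL) hd, ?_⟩
    calc y * elB f hf hK t u = τ⁻¹ * (τ * y * τ⁻¹ * (τ * elB f hf hK t u * τ⁻¹)) * τ := by group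
      _ = _ := by rw [e1]; group
  have i0 : iota α 0 = 0 := by simp [iota]
  have i1 : iota α 1 = 1 := by simp [iota]
  have hgen : ∀ q < 64, (genG f hf hK α q).1 = elB f hf hK (iota α q) (iota α (q / 8)) := fun q hq => by
    rw [genG, if_neg (by omega)]
  by_cases ht : t = 0
  · subst ht
    by_cases hu : u = 0
    · subst hu
      refine scaled 1 0 (by simp) ?_
      rw [hgen 0 (by norm_num), Nat.zero_div, i0]; simp
    · refine scaled (Units.mk0 (u ^ 2) (pow_ne_zero _ hu)) 8 (by simp) ?_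
      have h7 : (u ^ 2) ^ (e + 1) * u = 1 := by
        rw [← pow_mul, ← pow_succ, show 2 * (e + 1) + 1 = 7 by omega, h8 u hu]
      rw [hgen 8 (by norm_num), show iota α 8 = 0 by simp [iota], show 8 / 8 = 1 from rfl, i1,
        Units.val_mk0, mul_zero, h7]
  · obtain ⟨b, hb, hbe⟩ := iota_surj hα hK8 (t⁻¹ ^ (e + 1) * u)
    refine scaled (Units.mk0 t⁻¹ (inv_ne_zero ht)) (1 + 8 * b) (by interval_cases b <;> simp) ?_
    rw [hgen _ (by omega), show (1 + 8 * b) / 8 = b by omega, ← iota_mod (α := α) (1 + 8 * b),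
      show (1 + 8 * b) % 8 = 1 by omega, i1, Units.val_mk0, inv_mul_cancel₀ ht, hbe]

omit α hα in
theorem exists_alpha : ∃ α : K, α ^ 3 = 1 + α := by
  classical
  have hK8 : Fintype.card K = 8 := by rw [hK, he]; norm_num
  obtain ⟨g, -, hg⟩ : ∃ g : K, g ∈ (Finset.univ : Finset K) ∧ g ∉ ({0, 1} : Finset K) :=
    Finset.exists_mem_notMem_of_card_lt_card
      (lt_of_le_of_lt Finset.card_le_two (by rw [Finset.card_univ, hK8]; norm_num))
  simp only [Finset.mem_insert, Finset.mem_singleton, not_or] at hg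
  have h7 : g ^ 7 = 1 := by
    have := FiniteField.pow_card_sub_one_eq_one g hg.1
    rwa [hK8] at this
  have h2 : (2 : K) = 0 := CharTwo.two_eq_zero
  have h : (g - 1) * ((g ^ 3 + g + 1) * (g ^ 3 + g ^ 2 + 1)) = 0 := by
    linear_combination h7 + (g ^ 4 - g ^ 3) * h2
  rcases mul_eq_zero.1 ((mul_eq_zero.1 h).resolve_left (sub_ne_zero.2 hg.2)) with e' | e'
  · exact ⟨g, by linear_combination e' - (1 + g) * h2⟩
  · refine ⟨g⁻¹, ?_⟩
    have hg0 := hg.1
    field_simp
    linear_combination -e' + h2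

omit α hα in
/-- The square of one class of elements of odd order covers the group over eight elements. -/
theorem square_eight : ∃ x : ↥(endoF4 f).fix, Odd (orderOf x) ∧
    ∀ g, g ≠ 1 → ∃ u v, g = (u * x * u⁻¹) * (v * x * v⁻¹) := by
  classical
  obtain ⟨α, hα⟩ := exists_alpha f hf hK he
  haveI : Fintype Kˣ := Fintype.ofFinite _
  have hK8 : Fintype.card K = 8 := by rw [hK, he]; norm_num
  have hcard : Nat.card Kˣ = 7 := by rw [Nat.card_units, Nat.card_eq_fintype_card, hK8]
  have P := splitHyp f hf hK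
  set O := opp f hf hK
  obtain ⟨ω, hω⟩ := IsCyclic.exists_generator (α := Kˣ)
  have hord : orderOf ω = 7 := by rw [orderOf_eq_card_of_forall_mem_zpowers hω, hcard]
  set a := ω ^ (-2 : ℤ)
  have hchi : ∀ k, F4Root.chi e k a ω = ω ^ (-2 * eA 2 k + eB 2 k) := fun k => by
    rw [F4Root.chi, he, ← _root_.zpow_mul, ← _root_.zpow_add]
  have h1 : F4Root.chi e 1 a ω = 1 := by
    rw [hchi, show (-2 * eA 2 1 + eB 2 1 : ℤ) = 0 by decide +kernel, _root_.zpow_zero]
  obtain ⟨-, hexp, hr1, hr3⟩ := clsB_checks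
  simp only [List.all_eq_true, List.mem_range, Bool.or_eq_true, beq_iff_eq, decide_eq_true_eq] at hexp
  have hk : ∀ k < 12, k ≠ 1 → k ≠ 3 → F4Root.chi e k a ω ≠ 1 := fun k hk n1 n3 h => by
    rw [hchi, ← orderOf_dvd_iff_zpow_eq_one, hord] at h
    exact ((hexp k hk).resolve_left (by tauto)) (Int.emod_eq_zero_of_dvd h)
  set h := tel f hf hK a ω
  set S := evG f hf hK α SzEight.sW
  have hS5 : S.1 ^ 5 = 1 := by
    have e1 := evG_eq f hf hK hα he SzEight.five_chk
    rw [show ((List.replicate 5 SzEight.sW).flatten) =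
      SzEight.sW ++ (SzEight.sW ++ (SzEight.sW ++ (SzEight.sW ++ SzEight.sW))) by rfl] at e1
    simp only [evG_append, evG] at e1
    have e2 := congrArg Subtype.val e1
    rw [← Subgroup.coe_pow, pow_succ, pow_succ, pow_succ, pow_succ, pow_one]
    simpa [mul_assoc] using e2
  have hpow : ∀ n : ℕ, h ^ n = tel f hf hK (a ^ n) (ω ^ n) := fun n => by
    induction n with
    | zero => simp [tel_one]
    | succ n ih => rw [pow_succ, ih, pow_succ a, pow_succ ω, tel_mul]
  have hh7 : h ^ 7 = 1 := by rw [hpow, ← hcard, pow_card_eq_one', pow_card_eq_one', tel_one]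
  refine ⟨h * S.1, ?_, fun g hg => ?_⟩
  · have hc : Commute h S.1 := commute_clsB f hf hK h1 S.2
    refine Odd.of_dvd_nat (show Odd 35 by decide) (orderOf_dvd_of_pow_eq_one ?_)
    rw [hc.mul_pow, show 35 = 7 * 5 from rfl, pow_mul, hh7, one_pow, one_mul,
      show 7 * 5 = 5 * 7 from rfl, pow_mul, hS5, one_pow]
  · obtain ⟨y, u, hu, v, hv, hrep⟩ := inT_all f hf hK 1 (by rw [he]; rfl) le_rfl hg (a * a) (ω * ω)
    rw [tel_mul] at hrep
    obtain ⟨u', hu', yy, hyy, xx, hxx, v', hv', rfl, rfl⟩ := split_rep f hf hK clB_mem hu hv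
    obtain ⟨c, hc, d, hd, hcd⟩ := levi_square f hf hK hα he hyy hxx
    set s1 := c * S.1 * c⁻¹
    set s2 := d * S.1 * d⁻¹
    have hs1 : s1 ∈ (endoF4 f).clsL clB := mul_mem (mul_mem hc S.2) (inv_mem hc)
    have hs2 : s2 ∈ (endoF4 f).clsL clB := mul_mem (mul_mem hd S.2) (inv_mem hd)
    have hcom : ∀ {z}, z ∈ (endoF4 f).clsL clB → h * z = z * h := fun hz =>
      (commute_clsB f hf hK h1 hz).eq
    have hs15 : s1 ^ 5 = 1 := by rw [conj_pow, hS5]; group
    have hs25 : s2 ^ 5 = 1 := by rw [conj_pow, hS5]; group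
    have hrad : ∀ k < 12, (Endo.orbL dataTwF4.L k).root ∈ radSet chevF4 tabF4 (Endo.clsSet clB) →
        F4Root.chi e k a ω ≠ 1 := by
      intro k hk' hr
      refine hk k hk' (fun e1 => ?_) (fun e3 => ?_)
      · rw [e1, hr1] at hr
        exact hr.2 (((endoF4 f).clsPos_iff (dataOK_F4 f).cls clB_mem).1 (clsPosB.2 (by simp))).2
      · rw [e3, hr3] at hr
        exact hr.2 (((endoF4 f).clsPos_iff (dataOK_F4 f).cls clB_mem).1 (clsPosB.2 (by simp))).2
    have hfp : ∀ w ∈ radP (endoF4 f) clB, Commute w h → w = 1 := fun w hw hc' =>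
      fix_free f hf hK _ (fun r hr => hr.1) (certF4.commClosed_radSet _) hrad
        (Subgroup.mem_subgroupOf.1 hw) hc'
    have hfn : ∀ w ∈ radN (endoF4 f) clB, Commute w h → w = 1 := fun w hw hc' => by
      have h2 : O.n⁻¹ * w * O.n = 1 := hfp _ (conj_radN_radP O hw).2 (by
        have h3 : Commute (O.n⁻¹ * w * O.n) (O.n⁻¹ * h * O.n) := by
          show _ * _ = _ * _
          calc O.n⁻¹ * w * O.n * (O.n⁻¹ * h * O.n) = O.n⁻¹ * (w * h) * O.n := by group
            _ = _ := by rw [hc'.eq]; group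
        rw [O.inverts (tel_mem f hf hK a ω)] at h3
        simpa using h3.inv_right)
      calc w = O.n * (O.n⁻¹ * w * O.n) * O.n⁻¹ := by group
        _ = 1 := by rw [h2]; group
    have hnorm : ∀ {s}, s ∈ (endoF4 f).clsL clB →
        (∀ w ∈ radN (endoF4 f) clB, h * s * w * (h * s)⁻¹ ∈ radN (endoF4 f) clB) ∧
        ∀ w ∈ radP (endoF4 f) clB, h * s * w * (h * s)⁻¹ ∈ radP (endoF4 f) clB := fun {s} hs => by
      refine ⟨fun w hw => ?_, fun w hw => ?_⟩
      · rw [show h * s * w * (h * s)⁻¹ = h * (s * w * s⁻¹) * h⁻¹ by group]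
        exact conj_radN (P := P) clB_mem O (Or.inr (tel_mem f hf hK a ω))
          (conj_radN (P := P) clB_mem O (Or.inl hs) hw)
      · rw [show h * s * w * (h * s)⁻¹ = h * (s * w * s⁻¹) * h⁻¹ by group]
        exact conj_radP (P := P) clB_mem (Or.inr (tel_mem f hf hK a ω))
          (conj_radP (P := P) clB_mem (Or.inl hs) hw)
    obtain ⟨c1, hc1⟩ := isConj_iff.1 (CfsgLib.ClassSquare.isConj_mul_of_fix (hnorm hs1).1
      (fun w hw hc' => hfn w hw (CfsgLib.ClassSquare.commute_left_of_pow (hcom hs1) hh7 hs15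
        (by norm_num) hc')) hu')
    obtain ⟨c2, hc2⟩ := isConj_iff.1 (CfsgLib.ClassSquare.isConj_mul_right_of_fix (hnorm hs2).2
      (fun w hw hc' => hfp w hw (CfsgLib.ClassSquare.commute_left_of_pow (hcom hs2) hh7 hs25
        (by norm_num) hc')) hv')
    refine ⟨y⁻¹ * c1 * c, y⁻¹ * c2 * d, ?_⟩
    have hyx : yy * (h * h) * xx = h * s1 * (h * s2) := by
      have hL : yy ∈ (endoF4 f).clsL clB := Subgroup.mem_sup_right hyy
      calc yy * (h * h) * xx = (yy * h) * h * xx := by simp only [mul_assoc]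
        _ = (h * yy) * h * xx := by rw [hcom hL]
        _ = h * (yy * h) * xx := by simp only [mul_assoc]
        _ = h * (h * yy) * xx := by rw [hcom hL]
        _ = h * h * (yy * xx) := by simp only [mul_assoc]
        _ = h * (h * s1) * s2 := by rw [hcd]; group
        _ = h * (s1 * h) * s2 := by rw [hcom hs1]
        _ = _ := by group
    have e1 : ∀ {w}, w ∈ (endoF4 f).clsL clB → w * (h * S.1) * w⁻¹ = h * (w * S.1 * w⁻¹) := fun {w} hw => by
      rw [← mul_assoc, ← hcom hw]; group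
    calc g = y⁻¹ * (y * g * y⁻¹) * y := by group
      _ = y⁻¹ * (u' * (yy * (h * h) * xx) * v') * y := by rw [hrep]; simp only [h, mul_assoc]
      _ = y⁻¹ * ((u' * (h * s1)) * (h * s2 * v')) * y := by rw [hyx]; group
      _ = y⁻¹ * (c1 * (h * s1) * c1⁻¹ * (c2 * (h * s2) * c2⁻¹)) * y := by rw [hc1, hc2]
      _ = y⁻¹ * (c1 * (c * (h * S.1) * c⁻¹) * c1⁻¹ * (c2 * (d * (h * S.1) * d⁻¹) * c2⁻¹)) * y := by
        rw [e1 hc, e1 hd]
      _ = _ := by group

end CfsgLib.ClassSquare.LargeRee
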