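import Mathlib

/-!
Every plane not through the point at infinity meets the Suzuki ovoid: a linear form in the
coordinates of the affine points takes every value.
-/

set_option autoImplicit false

namespace CfsgLib.ClassSquare.LargeRee

open Finset

variable {K : Type*} [Field K] [CharP K 2] (θ : K →+* K) (hθ : ∀ x, θ (θ x) = x ^ 2)

/-- The last coordinate of the point of parameters `(T, u)`. -/
def ovf (T u : K) : K := T ^ 2 * θ T + T * u + θ u

/-- A linear form on the affine points. -/
def ovForm (A B C : K) (p : K × K) : K := A * ovf θ p.1 p.2 + B * p.2 + C * p.1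

/-- The translation by a point. -/
def ovShift (p₀ p : K × K) : K × K := (p.1 + p₀.1, p.2 + p₀.2 + p.1 * θ p₀.1)

/-- The symmetry exchanging the origin and the point at infinity. -/
def ovInv (p : K × K) : K × K := (p.2 / ovf θ p.1 p.2, p.1 / ovf θ p.1 p.2)

include hθ

theorem ovf_shift (p₀ p : K × K) :
    ovf θ (ovShift θ p₀ p).1 (ovShift θ p₀ p).2 = ovf θ p₀.1 p₀.2 + ovf θ p.1 p.2 + p₀.1 * p.2 +
      (p₀.1 * θ p₀.1 + p₀.2) * p.1 := by
  have h2 : (2 : K) = 0 := CharTwo.two_eq_zero
  simp only [ovf, ovShift, map_add, map_mul, hθ]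
  linear_combination (p.1 * p₀.1 * (θ p.1 + θ p₀.1) + p.1 ^ 2 * θ p₀.1 + p₀.1 ^ 2 * θ p.1) * h2

theorem ovf_eq_zero {T u : K} (h : ovf θ T u = 0) : T = 0 ∧ u = 0 := by
  have h2 : (2 : K) = 0 := CharTwo.two_eq_zero
  by_cases hT : T = 0
  · subst hT
    simp [ovf] at h
    exact ⟨rfl, h⟩
  exfalso
  have ht : θ T ≠ 0 := (map_ne_zero θ).2 hT
  set v := u / (T * θ T) with hv
  have hu : u = T * θ T * v := by rw [hv]; field_simp
  rw [ovf, hu, map_mul, map_mul, hθ] at h
  have h1 : θ v = 1 + v := by
    have h' : T ^ 2 * θ T * (1 + v + θ v) = 0 := by linear_combination h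
    have := (mul_eq_zero.1 h').resolve_left (mul_ne_zero (pow_ne_zero _ hT) ht)
    linear_combination this - (1 + v) * h2
  have h3 : v ^ 2 = v := by
    rw [← hθ, h1, map_add, map_one, h1]
    linear_combination h2
  rcases mul_eq_zero.1 (show v * (v - 1) = 0 by linear_combination h3) with h4 | h4
  · rw [h4, map_zero, add_zero] at h1; exact zero_ne_one h1
  · rw [sub_eq_zero] at h4
    rw [h4, map_one] at h1
    exact one_ne_zero (α := K) (by linear_combination -h1)

theorem ovf_ovInv {p : K × K} (hp : p ≠ 0) :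
    ovf θ (ovInv θ p).1 (ovInv θ p).2 = (ovf θ p.1 p.2)⁻¹ := by
  obtain ⟨T, u⟩ := p
  set f := ovf θ T u with hf
  have hf0 : f ≠ 0 := fun e => hp (by obtain ⟨a, b⟩ := ovf_eq_zero θ hθ e; simp [a, b])
  have hθf : θ f ≠ 0 := (map_ne_zero θ).2 hf0
  have h2 : (2 : K) = 0 := CharTwo.two_eq_zero
  have hθf' : θ f = (θ T) ^ 2 * T ^ 2 + θ T * θ u + u ^ 2 := by
    rw [hf, ovf]; simp only [map_add, map_mul, map_pow, hθ]
  have key : u ^ 2 * θ u + T * u * θ f + θ T * f ^ 2 = f * θ f := by
    rw [hθf', hf, ovf]
    linear_combination (θ T * (T ^ 3 * θ T * u + T * u * θ u)) * h2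
  show ovf θ (u / f) (T / f) = f⁻¹
  rw [ovf, map_div₀, map_div₀]
  field_simp
  linear_combination key

theorem ovInv_ovInv {p : K × K} (hp : p ≠ 0) : ovInv θ (ovInv θ p) = p := by
  have hf0 : ovf θ p.1 p.2 ≠ 0 := fun e => hp (by
    obtain ⟨a, b⟩ := ovf_eq_zero θ hθ e; exact Prod.ext a b)
  refine Prod.ext ?_ ?_
  · show (ovInv θ p).2 / ovf θ (ovInv θ p).1 (ovInv θ p).2 = p.1
    rw [ovf_ovInv θ hθ hp]; simp [ovInv, hf0]
  · show (ovInv θ p).1 / ovf θ (ovInv θ p).1 (ovInv θ p).2 = p.2
    rw [ovf_ovInv θ hθ hp]; simp [ovInv, hf0]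

theorem ovInv_ne_zero {p : K × K} (hp : p ≠ 0) : ovInv θ p ≠ 0 := fun e => by
  have hf0 : ovf θ p.1 p.2 ≠ 0 := fun e => hp (by
    obtain ⟨a, b⟩ := ovf_eq_zero θ hθ e; exact Prod.ext a b)
  simp [ovInv, Prod.ext_iff, hf0] at e
  exact hp (Prod.ext e.2 e.1)

variable [Fintype K]

open Classical in
theorem card_fibre_zero {A : K} (hA : A ≠ 0) (B C : K) :
    (univ.filter fun p => ovForm θ A B C p = 0).card = 1 ∨
      (univ.filter fun p => ovForm θ A B C p = 0).card = Fintype.card K + 1 := by
  set S := univ.filter fun p => ovForm θ A B C p = 0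
  set L := (univ : Finset (K × K)).filter fun p => A + B * p.1 + C * p.2 = 0
  have h0 : (0 : K × K) ∈ S := mem_filter.2 ⟨mem_univ _, by
    show A * ovf θ 0 0 + B * 0 + C * 0 = 0
    simp [ovf]⟩
  have hcard : (S.erase 0).card = L.card := by
    refine card_bij' (fun p _ => ovInv θ p) (fun p _ => ovInv θ p) ?_ ?_ ?_ ?_
    · intro p hp
      simp only [S, mem_erase, mem_filter, mem_univ, true_and] at hp
      obtain ⟨hp0, hp1⟩ := hp
      have hf0 : ovf θ p.1 p.2 ≠ 0 := fun e => hp0 (by
        obtain ⟨a, b⟩ := ovf_eq_zero θ hθ e; exact Prod.ext a b)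
      simp only [L, ovInv, mem_filter, mem_univ, true_and]
      rw [ovForm] at hp1
      field_simp
      linear_combination hp1
    · intro p hp
      simp only [L, mem_filter, mem_univ, true_and] at hp
      have hp0 : p ≠ 0 := fun e => hA (by simpa [e] using hp)
      have hf0 : ovf θ p.1 p.2 ≠ 0 := fun e => hp0 (by
        obtain ⟨a, b⟩ := ovf_eq_zero θ hθ e; exact Prod.ext a b)
      simp only [S, mem_erase, mem_filter, mem_univ, true_and]
      refine ⟨ovInv_ne_zero θ hθ hp0, ?_⟩
      rw [ovForm, ovf_ovInv θ hθ hp0]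
      simp only [ovInv]
      field_simp
      linear_combination hp
    · intro p hp; exact ovInv_ovInv θ hθ (mem_erase.1 hp).1
    · intro p hp
      simp only [L, mem_filter, mem_univ, true_and] at hp
      exact ovInv_ovInv θ hθ fun e => hA (by simpa [e] using hp)
  rw [← card_erase_add_one h0, hcard]
  by_cases hB : B = 0
  · by_cases hC : C = 0
    · left
      simp [L, hB, hC, hA]
    · right
      have : L = (univ : Finset K).image fun x => (x, -A / C) := by
        ext ⟨x, y⟩
        simp [L, hB]
        constructor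
        · intro h; field_simp; linear_combination -h
        · intro h; rw [← h]; field_simp; ring
      rw [this, card_image_of_injective _ fun a b h => (Prod.ext_iff.1 h).1, card_univ]
  · right
    have : L = (univ : Finset K).image fun y => ((-A - C * y) / B, y) := by
      ext ⟨x, y⟩
      simp [L]
      constructor
      · intro h; field_simp; linear_combination -h
      · intro h; rw [← h]; field_simp; ring
    rw [this, card_image_of_injective _ fun a b h => (Prod.ext_iff.1 h).2, card_univ]

open Classical in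
theorem card_fibre {A : K} (hA : A ≠ 0) (B C : K) (p₀ : K × K) :
    (univ.filter fun p => ovForm θ A B C p = ovForm θ A B C p₀).card = 1 ∨
      (univ.filter fun p => ovForm θ A B C p = ovForm θ A B C p₀).card = Fintype.card K + 1 := by
  obtain ⟨T₀, u₀⟩ := p₀
  set B' := A * T₀ + B
  set C' := A * (T₀ * θ T₀ + u₀) + B * θ T₀ + C
  have key : ∀ p, ovForm θ A B C (ovShift θ (T₀, u₀) p) =
      ovForm θ A B C (T₀, u₀) + ovForm θ A B' C' p := by
    intro p
    simp only [ovForm, ovf_shift θ hθ]
    simp only [ovShift, B', C']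
    ring
  have hinj : Function.Injective (ovShift θ (T₀, u₀)) := by
    rintro ⟨a, b⟩ ⟨c, d⟩ h
    simp only [ovShift, Prod.ext_iff] at h
    obtain rfl : a = c := add_right_cancel h.1
    exact Prod.ext rfl (by simpa using h.2)
  have hsurj := Finite.injective_iff_surjective.1 hinj
  have : (univ.filter fun p => ovForm θ A B C p = ovForm θ A B C (T₀, u₀)) =
      (univ.filter fun p => ovForm θ A B' C' p = 0).image (ovShift θ (T₀, u₀)) := by
    ext p
    obtain ⟨p', rfl⟩ := hsurj p
    simp only [mem_filter, mem_univ, true_and, mem_image, key, add_eq_left]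
    exact ⟨fun h => ⟨p', h, rfl⟩, fun ⟨q, hq, e⟩ => hinj e ▸ hq⟩
  rw [this, card_image_of_injective _ hinj]
  exact card_fibre_zero θ hθ hA B' C'

/-- A linear form takes every value on the affine points of the ovoid. -/
theorem ovForm_surjective {A : K} (hA : A ≠ 0) (B C : K) :
    Function.Surjective (ovForm θ A B C) := by
  classical
  intro c₀
  by_contra hno
  push Not at hno
  set q := Fintype.card K
  set n : K → ℕ := fun c => (univ.filter fun p => ovForm θ A B C p = c).card
  have hsum : q * q = ∑ c : K, n c := by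
    rw [show q * q = (univ : Finset (K × K)).card by simp [q]]
    exact card_eq_sum_card_fiberwise fun p _ => mem_univ _
  have hn : ∀ c, n c = 0 ∨ n c = 1 ∨ n c = q + 1 := fun c => by
    by_cases h : ∃ p, ovForm θ A B C p = c
    · obtain ⟨p, rfl⟩ := h; exact Or.inr (card_fibre θ hθ hA B C p)
    · exact Or.inl (card_eq_zero.2 (filter_eq_empty_iff.2 fun p _ e => h ⟨p, e⟩))
  set R := univ.filter fun c => n c = 1
  set S := univ.filter fun c => n c = q + 1
  have hq : 1 < q := Fintype.one_lt_card
  have hsum' : ∑ c : K, n c = R.card + S.card * (q + 1) := by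
    have e : ∀ c, n c = (if n c = 1 then 1 else 0) + (if n c = q + 1 then q + 1 else 0) := by
      intro c
      rcases hn c with h | h | h <;> simp [h] <;> omega
    rw [sum_congr rfl fun c _ => e c, sum_add_distrib, sum_boole, ← sum_filter, sum_const, smul_eq_mul]
    rfl
  have hRS : R.card + S.card ≤ q - 1 := by
    rw [← card_union_of_disjoint (disjoint_filter.2 fun c _ h1 h2 => by omega)]
    refine le_trans (card_le_card (t := (univ : Finset K).erase c₀) fun c hc => ?_)
      (by rw [card_erase_of_mem (mem_univ _), card_univ])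
    refine mem_erase.2 ⟨fun e => ?_, mem_univ _⟩
    have h0 : n c₀ = 0 := card_eq_zero.2 (filter_eq_empty_iff.2 fun p _ h => hno p h)
    subst e
    simp [R, S, h0] at hc
  rw [hsum'] at hsum
  rcases Nat.lt_or_ge S.card (q - 1) with h | h
  · have h1 : S.card + 2 ≤ q := by omega
    have h3 := Nat.mul_le_mul_right q h1
    have h4 : R.card + S.card + 1 ≤ q := by omega
    nlinarith [h3, h4]
  · have h1 : S.card = q - 1 := by omega
    have h2 : R.card = 0 := by omega
    obtain ⟨k, hk⟩ : ∃ k, q = k + 1 := ⟨q - 1, by omega⟩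
    rw [h1, h2, hk, Nat.add_sub_cancel, zero_add] at hsum
    nlinarith

end CfsgLib.ClassSquare.LargeRee
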