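import Cfsg.Agent.Lib.ClassSquare.LargeRee.BigCell
import Cfsg.Agent.Lib.ClassSquare.LargeRee.Ovoid
import Cfsg.Agent.Lib.ClassSquare.ChevGauss
import Cfsg.Agent.Lib.Chev.TwistF4Mult

/-!
The moves of the two classes of `²F₄(q)`: both tori are reached completely.
-/

set_option autoImplicit false
set_option maxRecDepth 100000
set_option linter.unusedSectionVars false

namespace CfsgLib.ClassSquare.LargeRee

open Cfsg.Lie Matrix CfsgLib.Chev CfsgLib.Chev.F4Root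
open CfsgLib.Chev.Cert (torusHom extC mem_cellList)

section General

variable {D : ChevalleyDatum} {T : Tab} {C : Tab.Cover} {h : Cert D T C} {F : Type*} [Field F]
  [Finite F] {E : Endo h F}

/-- The opposite element inverts the torus. -/
theorem Opp.inverts (O : Opp E) {τ : ↥E.fix} (hτ : τ ∈ E.diaG) : O.n⁻¹ * τ * O.n = τ⁻¹ := by
  obtain ⟨c, hc⟩ := h.range_torusHom.ge (Subgroup.mem_subgroupOf.1 hτ)
  obtain ⟨c', hc'⟩ := h.range_torusHom.ge (Endo.diag_conj (h := h)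
    (Subgroup.mem_subgroupOf.1 (inv_mem O.mon)) (Subgroup.mem_subgroupOf.1 hτ))
  have hn1 : ∀ r < T.n, ∀ t, chi' T c' r * t = chi' T c (T.neg r) * t := fun r hr t => by
    obtain ⟨z, hz, ez⟩ := O.maps r hr
    rw [O.neg r hr] at ez
    refine h.X_inj hr ?_
    have e1 := GTorus.torusHom_conj_X h c' hr t
    have e2 := GTorus.torusHom_conj_X h c (Cert.neg_lt (T := T) hr) (z * t)
    show X D r (charOf T (extC T c') r * t) = X D r (charOf T (extC T c) (T.neg r) * t)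
    rw [← e1, hc']
    have e3 := ez (charOf T (extC T c) (T.neg r) * t)
    rw [show z * (charOf T (extC T c) (T.neg r) * t) = charOf T (extC T c) (T.neg r) * (z * t) by ring,
      ← e2, hc, ← ez t] at e3
    rw [show X D r (charOf T (extC T c) (T.neg r) * t) = (O.n : GL D.Idx F)⁻¹ *
      ((O.n : GL D.Idx F) * X D r (charOf T (extC T c) (T.neg r) * t) * (O.n : GL D.Idx F)⁻¹) *
        (O.n : GL D.Idx F) by group, e3]
    simp only [Subgroup.coe_inv]
    group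
  have h1 : torusHom (D := D) (T := T) (c' * c) = 1 :=
    CfsgLib.ClassSquare.torusHom_eq_one h fun i => by
      have hr := h.simple_lt i.2
      rw [chi'_mul, show chi' T c' (T.simple i) = chi' T c (T.neg (T.simple i)) by
        simpa using hn1 _ hr 1, mul_comm]
      exact (h.isChar_charOf fun j _ => Cert.extC_ne_zero c j).mul_neg _ hr
  rw [map_mul, hc, hc'] at h1
  refine eq_inv_of_mul_eq_one_left (Subtype.ext ?_)
  simpa using h1

/-- Covering by a faithful block with unitriangular root subgroups. -/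
theorem cover_of_block {d : Endo.Data T} {e Q : ℕ} (P : E.SplitHyp d e Q) {c : Cls} (hc : c ∈ d.CL)
    {rep : ↥E.fix} (hrep : E.IsRep c rep) (hrepL : rep ∈ E.clsL c) {n : ℕ}
    (ψ : ↥(E.clsL c) →* GL (Fin (n + 1)) F) {Tc : Set ↥E.fix}
    (hup : ∀ g : ↥(E.clsL c), g.1 ∈ E.clsY c → ∀ j,
      (ψ g).1 (Fin.last n) j = if j = Fin.last n then 1 else 0)
    (hlow : ∀ g : ↥(E.clsL c), g.1 ∈ E.clsX c → ∀ i,
      (ψ g).1 i (Fin.last n) = if i = Fin.last n then 1 else 0)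
    (hmon : ∀ g : ↥(E.clsL c), E.IsRep c g.1 → (ψ g).1 (Fin.last n) (Fin.last n) = 0)
    (hdia : ∀ g : ↥(E.clsL c), g.1 ∈ E.diaG → ∀ τ : ↥(E.clsL c), τ.1 ∈ Tc →
      (ψ g).1 (Fin.last n) (Fin.last n) = (ψ τ).1 (Fin.last n) (Fin.last n) → g.1 = τ.1)
    (hTL : ∀ τ ∈ Tc, τ ∈ E.clsL c)
    (hne : ∀ τ : ↥(E.clsL c), τ.1 ∈ Tc → (ψ τ).1 (Fin.last n) (Fin.last n) ≠ 0)
    (hval : ∀ g : ↥(E.clsL c), g.1 ∈ E.clsY c → g.1 ≠ 1 → ∀ z : F, z ≠ 0 →
      ∃ s : ↥(E.clsL c), s.1 ∈ E.clsX c ∧ (ψ (s * g)).1 (Fin.last n) (Fin.last n) = z) :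
    Cover E c Tc := by
  have hC := P.ok.cls
  intro y hy hy1 τ hτ
  set τ' : ↥(E.clsL c) := ⟨τ, hTL τ hτ⟩
  obtain ⟨s, hs, hsv⟩ := hval ⟨y, Subgroup.mem_sup_right hy⟩ hy hy1 _ (hne τ' hτ)
  have hy' := hy
  rw [← E.map_clsX hC hc hrep] at hy'
  obtain ⟨x, hx, exy⟩ := hy'
  have exy' : rep * x * rep⁻¹ = y := by simpa using exy
  have hx1 : x ≠ 1 := fun e0 => hy1 (by rw [← exy', e0]; simp)
  obtain ⟨a, ha, m, hm, b, hb, eb⟩ := E.class_bru hC hc P.reps hrep hx hx1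
  rw [exy'] at eb
  have hLX : ∀ {g}, g ∈ E.clsX c → g ∈ E.clsL c := fun hg => Subgroup.mem_sup_left hg
  have hmL : m ∈ E.clsL c := by
    rw [show m = a⁻¹ * y * b⁻¹ by rw [eb]; group]
    exact mul_mem (mul_mem (inv_mem (hLX ha)) (Subgroup.mem_sup_right hy)) (inv_mem (hLX hb))
  set q := s.1 * a with hq
  have hqX : q ∈ E.clsX c := mul_mem hs ha
  have hmul : ∀ (g1 g2 : ↥(E.clsL c)), (ψ (g1 * g2)).1 = (ψ g1).1 * (ψ g2).1 := fun g1 g2 => by
    rw [map_mul, Units.val_mul]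
  by_cases hq1 : q = 1
  · exfalso
    have e0 : s * ⟨y, Subgroup.mem_sup_right hy⟩ = ⟨m, hmL⟩ * ⟨b, hLX hb⟩ := Subtype.ext (by
      show s.1 * y = m * b
      rw [eb, ← mul_assoc, ← mul_assoc, ← hq, hq1, one_mul])
    rw [e0, hmul, Matrix.mul_apply, Finset.sum_eq_single (Fin.last n)] at hsv
    · rw [hlow ⟨b, hLX hb⟩ hb, if_pos rfl, mul_one, hmon ⟨m, hmL⟩ hm] at hsv
      exact hne τ' hτ hsv.symm
    · intro j _ hj; rw [hlow ⟨b, hLX hb⟩ hb, if_neg hj, mul_zero]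
    · simp
  obtain ⟨a2, ha2, m2, hm2, b2, hb2, eb2⟩ :=
    E.class_bru hC hc P.reps (E.rep_inv hC hc hm) hqX hq1
  rw [inv_inv] at eb2
  have hy2 : m * a2 * m⁻¹ ∈ E.clsY c := E.conj_rep_X hC hc hm ha2
  have hτ2 : m * m2 ∈ E.diaG := E.rep_mul_rep hC hc hm hm2
  have hx2 : b2 * b ∈ E.clsX c := mul_mem hb2 hb
  have e1 : s.1 * y = m * a2 * m⁻¹ * (m * m2) * (b2 * b) := by
    calc s.1 * y = s.1 * a * m * b := by rw [eb]; group
      _ = m * (m⁻¹ * q * m) * b := by rw [hq]; group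
      _ = _ := by rw [eb2]; group
  have hm2L : m2 ∈ E.clsL c := by
    rw [show m2 = a2⁻¹ * (m⁻¹ * q * m) * b2⁻¹ by rw [eb2]; group]
    exact mul_mem (mul_mem (inv_mem (hLX ha2)) (mul_mem (mul_mem (inv_mem hmL) (hLX hqX)) hmL))
      (inv_mem (hLX hb2))
  have e2 : s * ⟨y, Subgroup.mem_sup_right hy⟩ =
      (⟨_, Subgroup.mem_sup_right hy2⟩ : ↥(E.clsL c)) * ⟨_, mul_mem hmL hm2L⟩ * ⟨_, hLX hx2⟩ :=
    Subtype.ext e1
  have h3 : (ψ ⟨_, mul_mem hmL hm2L⟩).1 (Fin.last n) (Fin.last n) =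
      (ψ τ').1 (Fin.last n) (Fin.last n) := by
    rw [← hsv, e2, hmul, hmul, Matrix.mul_apply, Finset.sum_eq_single (Fin.last n),
      Matrix.mul_apply, Finset.sum_eq_single (Fin.last n)]
    · rw [hup ⟨_, Subgroup.mem_sup_right hy2⟩ hy2, hlow ⟨_, hLX hx2⟩ hx2, if_pos rfl,
        one_mul, mul_one]
    · intro j _ hj; rw [hup ⟨_, Subgroup.mem_sup_right hy2⟩ hy2, if_neg hj, zero_mul]
    · simp
    · intro j _ hj; rw [hlow ⟨_, hLX hx2⟩ hx2, if_neg hj, mul_zero]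
    · simp
  refine ⟨s.1, hs, _, hy2, _, hx2, ?_⟩
  have e3 : m * m2 = τ := hdia ⟨_, mul_mem hmL hm2L⟩ hτ2 τ' hτ h3
  rw [e1, e3]

end General

variable {K : Type*} [Field K] [Fintype K] [CharP K 2] {e : ℕ}
variable (f : K →+* K) (hf : ∀ t, f t = t ^ e) (hK : Fintype.card K = 2 * e ^ 2)

/-- The word of the longest element. -/
def w8 : List ℕ := clsWord dataTwF4.CL [0, 1, 0, 1, 0, 1, 0, 1]

theorem w8_neg : ((List.range tabF4.n).all fun r => rword tabF4 w8 r == tabF4.neg r) = true := by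
  decide +kernel

theorem simple_cover : ∀ j < tabF4.l, ∃ c ∈ dataTwF4.CL, tabF4.simple j ∈ Endo.clsPos tabF4 c := by
  have h : ((List.range tabF4.l).all fun j => dataTwF4.CL.any fun c =>
      (cellList tabF4 c.word).contains (tabF4.simple j)) = true := by decide +kernel
  intro j hj
  simp only [List.all_eq_true, List.mem_range, List.any_eq_true, List.contains_iff_mem] at h
  exact h j hj

include hf hK in
theorem exists_opp : ∃ O : Opp (endoF4 f), O.w = w8 := by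
  obtain ⟨m, -, hm, hmn, hM⟩ := (endoF4 f).exists_rep_clsWord (dataOK_F4 f).cls
    (std_fixF4 f hf hK).reps (M := [0, 1, 0, 1, 0, 1, 0, 1]) (by decide)
  have hn := w8_neg
  simp only [List.all_eq_true, List.mem_range, beq_iff_eq] at hn
  exact ⟨⟨⟨m, hm⟩, w8, (endoF4 f).wordOK_clsWord (dataOK_F4 f).cls (M := [0, 1, 0, 1, 0, 1, 0, 1])
    (by decide),
    Subgroup.mem_subgroupOf.2 hmn, hM, hn⟩, rfl⟩

include hf hK

/-- The opposite element. -/
noncomputable def opp : Opp (endoF4 f) := (exists_opp f hf hK).choose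

/-- The torus of the class with two roots. -/
def torSetA : Set ↥(endoF4 f).fix := Set.range fun a => tel f hf hK a 1

/-- The torus of the class with four roots. -/
def torSetB : Set ↥(endoF4 f).fix := Set.range fun b => tel f hf hK 1 b

theorem coverA : Cover (endoF4 f) clA (torSetA f hf hK) := by
  have hY : ∀ g : ↥((endoF4 f).clsL clA), g.1 ∈ (endoF4 f).clsY clA → ∃ t, g.1 ≠ 1 → t ≠ 0 ∧
      (psiA f g : Matrix (Fin 2) (Fin 2) K) = !![1, t; 0, 1] := by
    intro g hg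
    rw [← (endoF4 f).map_clsX (dataOK_F4 f).cls clA_mem (repA_isRep f hf hK)] at hg
    obtain ⟨x, hx, ex⟩ := hg
    obtain ⟨t, rfl⟩ := exists_elA f hf hK hx
    refine ⟨t, fun hg1 => ⟨fun h0 => hg1 ?_, ?_⟩⟩
    · rw [← ex, show elA f hf hK t = 1 from Subtype.ext (by
        have he : (0 : K) ^ e = 0 := zero_pow (pos_e f hf hK).ne'
        show X chevF4 33 (t ^ e) * X chevF4 24 t = 1
        rw [h0, he, certF4.X_zero (show 33 < tabF4.n by decide +kernel),
          certF4.X_zero (show 24 < tabF4.n by decide +kernel), one_mul]), map_one]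
    · have e0 : g = ⟨_, repA_mem f hf hK⟩ * ⟨_, Subgroup.mem_sup_left (elA_mem f hf hK t)⟩ *
          (⟨_, repA_mem f hf hK⟩ : ↥((endoF4 f).clsL clA))⁻¹ := Subtype.ext (by simpa using ex.symm)
      set r : ↥((endoF4 f).clsL clA) := ⟨_, repA_mem f hf hK⟩
      have hr2 : (psiA f r : Matrix (Fin 2) (Fin 2) K) * (psiA f r : Matrix (Fin 2) (Fin 2) K) = 1 := by
        rw [psiA_rep f hf hK]; ext i j; fin_cases i <;> fin_cases j <;> simp [Matrix.mul_apply]
      rw [e0, map_mul, map_mul, map_inv, Units.val_mul, Units.val_mul, Matrix.coe_units_inv,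
        Matrix.inv_eq_right_inv hr2, psiA_rep f hf hK, psiA_el f hf hK rfl]
      ext i j; fin_cases i <;> fin_cases j <;> simp [Matrix.mul_apply]
  refine cover_of_block (splitHyp f hf hK) clA_mem (repA_isRep f hf hK) (repA_mem f hf hK)
    (psiA f) ?_ ?_ ?_ ?_ ?_ ?_ ?_
  · intro g hg j
    obtain ⟨t, ht⟩ := hY g hg
    by_cases hg1 : g.1 = 1
    · rw [show g = 1 from Subtype.ext hg1, map_one]
      fin_cases j <;> simp
    rw [(ht hg1).2]; fin_cases j <;> simp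
  · intro g hg i
    obtain ⟨t, ht⟩ := exists_elA f hf hK hg
    rw [psiA_el f hf hK ht]; fin_cases i <;> simp
  · intro g hg
    set r : ↥((endoF4 f).clsL clA) := ⟨_, repA_mem f hf hK⟩
    have hd : (r * g).1 ∈ (endoF4 f).diaG :=
      (endoF4 f).rep_mul_rep (dataOK_F4 f).cls clA_mem (repA_isRep f hf hK) hg
    obtain ⟨a, -, hM⟩ := torA f hf hK hd (r * g).2
    rw [Subtype.coe_eta, map_mul, Units.val_mul, psiA_rep f hf hK] at hM
    have := congrFun (congrFun hM 0) 1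
    simpa [Matrix.mul_apply] using this
  · rintro g hg τ ⟨a', ha'⟩ h1
    obtain ⟨a, ea, hM⟩ := torA f hf hK hg g.2
    have hτd : τ.1 ∈ (endoF4 f).diaG := ha' ▸ tel_mem f hf hK a' 1
    obtain ⟨a'', ea'', hM''⟩ := torA f hf hK hτd τ.2
    rw [Subtype.coe_eta] at hM hM''
    rw [hM, hM''] at h1
    have : a = a'' := Units.ext (by simpa using h1)
    rw [ea, ea'', this]
  · rintro τ ⟨a, rfl⟩; exact tel_mem_A f hf hK a
  · rintro τ ⟨a', ha'⟩
    obtain ⟨a, -, hM⟩ := torA f hf hK (ha' ▸ tel_mem f hf hK a' 1) τ.2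
    rw [Subtype.coe_eta] at hM
    rw [hM]; simp
  · intro g hg hg1 z hz
    obtain ⟨t, ht⟩ := hY g hg
    obtain ⟨ht0, hM⟩ := ht hg1
    refine ⟨⟨_, Subgroup.mem_sup_left (elA_mem f hf hK ((z - 1) / t))⟩, elA_mem f hf hK _, ?_⟩
    rw [map_mul, Units.val_mul, hM, psiA_el f hf hK rfl]
    simp [Matrix.mul_apply, ht0]

set_option maxHeartbeats 1000000 in
theorem coverB (m : ℕ) (hem : e = 2 ^ m) : Cover (endoF4 f) clB (torSetB f hf hK) := by
  let θ : K →+* K := iterateFrobenius K 2 (m + 1)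
  have hθe : ∀ x : K, θ x = x ^ (2 * e) := fun x => by
    simp only [θ, iterateFrobenius_def, hem, pow_succ']
  have hθ : ∀ x : K, θ (θ x) = x ^ 2 := fun x => by
    rw [hθe, hθe, ← pow_mul, show 2 * e * (2 * e) = Fintype.card K * 2 by rw [hK]; ring, pow_mul,
      FiniteField.pow_card]
  have hT : ∀ t : K, θ (t ^ e) = t := fun t => by
    rw [hθe, ← pow_mul, show e * (2 * e) = 2 * e ^ 2 by ring, ← hK, FiniteField.pow_card]
  have hT' : ∀ t : K, θ t ^ e = t := fun t => by rw [← map_pow, hT]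
  have hov : ∀ t u : K, t ^ e * (t ^ e * t + u) + u ^ (2 * e) = ovf θ (t ^ e) u := fun t u => by
    rw [ovf, hT, ← hθe]; ring
  set r : ↥((endoF4 f).clsL clB) := ⟨_, repB_mem f hf hK⟩
  have hr2 : (psiB f r : Matrix (Fin 4) (Fin 4) K) * (psiB f r : Matrix (Fin 4) (Fin 4) K) = 1 := by
    rw [psiB_rep f hf hK]
    ext i j; fin_cases i <;> fin_cases j <;> simp [Matrix.mul_apply, Fin.sum_univ_four]
  have hY : ∀ g : ↥((endoF4 f).clsL clB), g.1 ∈ (endoF4 f).clsY clB → ∃ t u : K, (g.1 ≠ 1 →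
      t ≠ 0 ∨ u ≠ 0) ∧ (∀ j, (psiB f g).1 3 j = if j = 3 then 1 else 0) ∧
      (psiB f g).1 0 3 = ovf θ (t ^ e) u ∧ (psiB f g).1 1 3 = t ^ e * t + u ∧
      (psiB f g).1 2 3 = t ^ e := by
    intro g hg
    rw [← (endoF4 f).map_clsX (dataOK_F4 f).cls clB_mem (repB_isRep f hf hK)] at hg
    obtain ⟨x, hx, ex⟩ := hg
    obtain ⟨t, u, rfl⟩ := exists_elB f hf hK hx
    have e0 : g = r * ⟨_, Subgroup.mem_sup_left (elB_mem f hf hK t u)⟩ * r⁻¹ :=
      Subtype.ext (by simpa using ex.symm)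
    have hM : (psiB f g : Matrix (Fin 4) (Fin 4) K) = (psiB f r).1 *
        matB (t ^ e) t u (u ^ (2 * e)) * (psiB f r).1 := by
      have hx' := psiB_el f hf hK (g := ⟨_, Subgroup.mem_sup_left (elB_mem f hf hK t u)⟩) (t := t)
        (u := u) rfl
      have hri : (((psiB f r)⁻¹ : GL (Fin 4) K) : Matrix (Fin 4) (Fin 4) K) = (psiB f r).1 :=
        Units.inv_eq_of_mul_eq_one_right hr2
      rw [e0, map_mul, map_mul, map_inv, Units.val_mul, Units.val_mul, hri, hx']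
    refine ⟨t, u, fun hg1 => ?_, fun j => ?_, ?_, ?_, ?_⟩
    · by_contra hno
      push Not at hno
      refine hg1 ?_
      rw [← ex, hno.1, hno.2, elB_zero, map_one]
    all_goals rw [hM, psiB_rep f hf hK]
    · fin_cases j <;> simp [matB, Matrix.mul_apply, Fin.sum_univ_four]
    · rw [← hov]; simp [matB, Matrix.mul_apply, Fin.sum_univ_four]
    · simp [matB, Matrix.mul_apply, Fin.sum_univ_four]
    · simp [matB, Matrix.mul_apply, Fin.sum_univ_four]
  refine cover_of_block (n := 3) (splitHyp f hf hK) clB_mem (repB_isRep f hf hK) (repB_mem f hf hK)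
    (psiB f) ?_ ?_ ?_ ?_ ?_ ?_ ?_
  · intro g hg j
    obtain ⟨t, u, -, h1, -⟩ := hY g hg
    exact h1 j
  · intro g hg i
    obtain ⟨t, u, ht⟩ := exists_elB f hf hK hg
    rw [psiB_el f hf hK ht]
    fin_cases i <;> simp [matB, show Fin.last 3 = (3 : Fin 4) from rfl]
  · intro g hg
    have hd : (r * g).1 ∈ (endoF4 f).diaG :=
      (endoF4 f).rep_mul_rep (dataOK_F4 f).cls clB_mem (repB_isRep f hf hK) hg
    obtain ⟨b, -, hM⟩ := torB f hf hK m hem hd (r * g).2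
    rw [Subtype.coe_eta, map_mul, Units.val_mul, psiB_rep f hf hK] at hM
    have := congrFun (congrFun hM 0) 3
    simpa [Matrix.mul_apply, Fin.sum_univ_four, show Fin.last 3 = (3 : Fin 4) from rfl] using this
  · rintro g hg τ ⟨b', hb'⟩ h1
    obtain ⟨b, eb, hM⟩ := torB f hf hK m hem hg g.2
    obtain ⟨b'', eb'', hM''⟩ := torB f hf hK m hem (hb' ▸ tel_mem f hf hK 1 b') τ.2
    rw [Subtype.coe_eta] at hM hM''
    rw [hM, hM''] at h1
    simp [chiB, show Fin.last 3 = (3 : Fin 4) from rfl] at h1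
    have h2 := congrArg (fun z : K => θ z) h1
    simp only [hT] at h2
    rw [eb, eb'', Units.ext h2]
  · rintro τ ⟨b, rfl⟩; exact tel_mem_B f hf hK b
  · rintro τ ⟨b', hb'⟩
    obtain ⟨b, -, hM⟩ := torB f hf hK m hem (hb' ▸ tel_mem f hf hK 1 b') τ.2
    rw [Subtype.coe_eta] at hM
    rw [hM]; simp [chiB, show Fin.last 3 = (3 : Fin 4) from rfl]
  · intro g hg hg1 z hz
    obtain ⟨t, u, htu, -, h0, h1, h2⟩ := hY g hg
    have hA : ovf θ (t ^ e) u ≠ 0 := fun h => by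
      obtain ⟨ha, hb⟩ := ovf_eq_zero θ hθ h
      exact (htu hg1).elim (fun ht => ht (eq_zero_of_pow_eq_zero ha)) fun hu => hu hb
    obtain ⟨⟨S, U⟩, hSU⟩ := ovForm_surjective θ hθ hA (t ^ e * t + u) (t ^ e) (z - 1)
    refine ⟨⟨_, Subgroup.mem_sup_left (elB_mem f hf hK (θ S) U)⟩, elB_mem f hf hK _ _, ?_⟩
    obtain ⟨t', u', -, h3, -⟩ := hY g hg
    rw [map_mul, Units.val_mul, psiB_el f hf hK rfl, show Fin.last 3 = (3 : Fin 4) from rfl,
      Matrix.mul_apply, Fin.sum_univ_four, h0, h1, h2, h3 3]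
    simp only [matB, hT']
    rw [ovForm] at hSU
    have hf1 : S * (S * θ S + U) + U ^ (2 * e) = ovf θ S U := by rw [ovf, ← hθe]; ring
    simp
    linear_combination hSU + ovf θ (t ^ e) u * hf1

end CfsgLib.ClassSquare.LargeRee
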